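import Cfsg.Agent.H43.JTwo.Uniq.Frame
import Cfsg.Agent.H43.JTwo.Cert.Bound

/-!
The relators of J2 hold in a group of Hall–Janko type.
-/

set_option autoImplicit false
set_option linter.style.haveILetI false
set_option linter.unusedSectionVars false
set_option linter.unusedSimpArgs false
set_option synthInstance.maxSize 4000

namespace Cfsg.Agent.H43.JTwo.Uniq

open Subgroup Equiv H45

variable {G : Type*} [Group G] [Finite G] {z a σ t b : G}
  {ι k : alternatingGroup (Fin 5) →* G} {s : Fin 5 → G}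

theorem sign_m {x y : Mo} (hx : Perm.sign x.2 = 1) (hy : Perm.sign y.2 = 1) :
    Perm.sign (mmul x y).2 = 1 := CModel.sign_mmul hx hy

theorem sign_base : Perm.sign mq.2 = 1 ∧ Perm.sign mR.2 = 1 ∧ Perm.sign mR'.2 = 1 ∧
    Perm.sign mY.2 = 1 ∧ (∀ l < 7, Perm.sign (mlet l).2 = 1) := by
  decide +kernel

namespace Frame

theorem ext_val (π : alternatingGroup (Fin 5)) {ρ : Perm (Fin 5)} (h : (π : Perm (Fin 5)) = ρ)
    (φ : alternatingGroup (Fin 5) →* G) : ext5 φ ρ = φ π := by
  rw [← h, ext5_apply]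

/-- the image of `q` -/
theorem conj_q (F : Frame z a σ t b ι k s) :
    σ * phi z s (ext5 k) mq * σ⁻¹ = phi z s (ext5 k) mY := by
  have M := F.toCModel
  obtain ⟨q1, q2, q3, q4, q5⟩ := q_facts
  obtain ⟨sq, sR, sR', sY, sl⟩ := sign_base
  obtain ⟨pz, pa, pt, pb, -, -, -, pq, pR, pR'⟩ := M.phi_mlet
  set φ := phi z s (ext5 k) with hφ
  have hm : ∀ {x y : Mo}, Perm.sign x.2 = 1 → Perm.sign y.2 = 1 → φ (mmul x y) = φ x * φ y :=
    fun hx hy => M.phi_mul hx hy
  have pa' : φ (mlet 1) = a := pa.trans F.s4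
  have pt' : φ (mlet 2) = t := pt.trans ((ext_val zA rfl k).trans F.kt)
  have pb' : φ (mlet 3) = b := pb.trans ((ext_val aA rfl k).trans F.kb)
  have pR1 : φ mR = k sA := pR.trans (ext_val sA rfl k)
  have pR2 : φ mR' = k sA⁻¹ := pR'.trans (ext_val sA⁻¹ rfl k)
  have hσ : ι sA = σ := F.is
  have hRσ : k sA * σ = σ * k sA := by
    rw [← hσ]; exact F.kι sA fp_facts.2.2.2.2.2.2.2 sA
  have hR'σ : k sA⁻¹ * σ = σ * k sA⁻¹ := by rw [map_inv]; exact Commute.inv_left hRσ
  have htσ : t * σ = σ * t := by rw [← F.kt, ← hσ]; exact F.kι zA fix_four.1 sA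
  have hbσ : b * σ = σ * b := by rw [← F.kb, ← hσ]; exact F.kι aA fix_four.2.1 sA
  have hσz : σ * z * σ⁻¹ = a := by
    rw [← F.iz, ← F.ia, ← hσ, ← map_inv, ← map_mul, ← map_mul]
    exact congrArg ι (Subtype.ext fp_facts.2.2.2.2.2.1)
  have hσa : σ * a * σ⁻¹ = z * a := by
    rw [← F.iz, ← F.ia, ← hσ, ← map_inv, ← map_mul, ← map_mul, ← map_mul]
    exact congrArg ι (Subtype.ext fp_facts.2.2.2.2.2.2.1)
  have hza : z * a = a * z := by rw [← F.s4]; exact (M.zs 4).symm
  have haa : a * a = 1 := by rw [← F.s4]; exact M.ss 4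
  have hσza : σ * (z * a) * σ⁻¹ = z := by
    rw [show σ * (z * a) * σ⁻¹ = (σ * z * σ⁻¹) * (σ * a * σ⁻¹) by group, hσz, hσa, ← mul_assoc,
      ← hza, mul_assoc, haa, mul_one]
  obtain ⟨cj, hcj⟩ : ∃ cj : G →* G, ∀ x, cj x = σ * x * σ⁻¹ := ⟨(MulAut.conj σ).toMonoidHom, fun x => rfl⟩
  set y := cj (φ mq) with hy
  have hyz : y * z = z * y := by
    rw [← hσza, ← hcj, hy, ← map_mul, ← map_mul]
    refine congrArg cj ?_
    have := congrArg φ q5
    rw [hm sq (sign_m (sl 0 (by norm_num)) (sl 1 (by norm_num))),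
      hm (sign_m (sl 0 (by norm_num)) (sl 1 (by norm_num))) sq, hm (sl 0 (by norm_num)) (sl 1 (by norm_num)),
      pz, pa'] at this
    exact this
  obtain ⟨w, hw, hwy⟩ := F.surj y hyz
  rw [← hφ] at hwy
  have e1 : mmul w (mlet 1) = mmul (mlet 1) w := F.inj _ _ (sign_m hw (sl 1 (by norm_num)))
    (sign_m (sl 1 (by norm_num)) hw) (by
      rw [← hφ, hm hw (sl 1 (by norm_num)), hm (sl 1 (by norm_num)) hw, hwy, pa', ← hσz, ← hcj, hy,
        ← map_mul, ← map_mul, pq]
      exact congrArg cj F.inQ)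
  have e2 : mmul w w = mlet 1 := F.inj _ _ (sign_m hw hw) (sl 1 (by norm_num)) (by
    rw [← hφ, hm hw hw, hwy, pa', hy, ← map_mul, ← hm sq sq, q1, pz, hcj, hσz])
  have hcb : ∀ {u : G}, u * σ = σ * u → cj u = u := fun h => by
    rw [hcj, ← h, mul_inv_cancel_right]
  have e3 : mmul (mmul (mlet 2) w) (mlet 2) = mmul w (mlet 1) := F.inj _ _
    (sign_m (sign_m (sl 2 (by norm_num)) hw) (sl 2 (by norm_num))) (sign_m hw (sl 1 (by norm_num))) (by
      rw [← hφ, hm (sign_m (sl 2 (by norm_num)) hw) (sl 2 (by norm_num)), hm (sl 2 (by norm_num)) hw,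
        hm hw (sl 1 (by norm_num)), hwy, pt', pa', hy]
      conv_lhs => rw [← hcb htσ]
      rw [← map_mul, ← map_mul, ← hσz, ← hcj z, ← map_mul]
      refine congrArg cj ?_
      have := congrArg φ q2
      rw [hm (sign_m (sl 2 (by norm_num)) sq) (sl 2 (by norm_num)), hm (sl 2 (by norm_num)) sq,
        hm sq (sl 0 (by norm_num)), pt', pz] at this
      exact this)
  have e4 : mmul (mmul (mlet 3) w) (mlet 3) = mmul w (mlet 0) := F.inj _ _
    (sign_m (sign_m (sl 3 (by norm_num)) hw) (sl 3 (by norm_num))) (sign_m hw (sl 0 (by norm_num))) (by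
      rw [← hφ, hm (sign_m (sl 3 (by norm_num)) hw) (sl 3 (by norm_num)), hm (sl 3 (by norm_num)) hw,
        hm hw (sl 0 (by norm_num)), hwy, pb', pz, hy]
      conv_lhs => rw [← hcb hbσ]
      conv_rhs => rw [← hσza, ← hcj]
      rw [← map_mul, ← map_mul, ← map_mul]
      refine congrArg cj ?_
      have := congrArg φ q3
      rw [hm (sign_m (sl 3 (by norm_num)) sq) (sl 3 (by norm_num)), hm (sl 3 (by norm_num)) sq,
        hm sq (sign_m (sl 0 (by norm_num)) (sl 1 (by norm_num))),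
        hm (sl 0 (by norm_num)) (sl 1 (by norm_num)), pb', pz, pa'] at this
      exact this)
  have e5 : mmul (mmul w (mmul (mmul mR w) mR')) (mmul (mmul mR' w) mR) = mlet 0 := F.inj _ _
    (sign_m (sign_m hw (sign_m (sign_m sR hw) sR')) (sign_m (sign_m sR' hw) sR)) (sl 0 (by norm_num)) (by
      rw [← hφ, hm (sign_m hw (sign_m (sign_m sR hw) sR')) (sign_m (sign_m sR' hw) sR),
        hm hw (sign_m (sign_m sR hw) sR'), hm (sign_m sR hw) sR', hm (sign_m sR' hw) sR, hm sR hw,
        hm sR' hw, hwy, pR1, pR2, pz, hy]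
      conv_lhs => rw [← hcb hRσ, ← hcb hR'σ]
      conv_rhs => rw [← hσza, ← hcj]
      simp only [← map_mul]
      refine congrArg cj ?_
      have := congrArg φ q4
      rw [hm (sign_m sq (sign_m (sign_m sR sq) sR')) (sign_m (sign_m sR' sq) sR),
        hm sq (sign_m (sign_m sR sq) sR'), hm (sign_m sR sq) sR', hm (sign_m sR' sq) sR, hm sR sq,
        hm sR' sq, hm (sl 0 (by norm_num)) (sl 1 (by norm_num)), pR1, pR2, pz, pa'] at this
      exact this)
  have hwY : (w.1, w.2) = mY := y_unique w.2 hw w.1 e1 e2 e3 e4 e5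
  rw [← hcj, ← hy, ← hwy, show w = mY from hwY]

/-- the letters -/
noncomputable def eF (ι k : alternatingGroup (Fin 5) →* G) (z : G) (s : Fin 5 → G) (l : ℕ) : G :=
  if l < 7 then phi z s (ext5 k) (mlet l) else ext5 ι (llet l)

theorem llet_out {l : ℕ} (hl : 10 ≤ l) : llet l = 1 := by
  unfold llet
  split <;> first | omega | rfl

theorem eF_low (l : ℕ) (hl : l < 7) : eF ι k z s l = phi z s (ext5 k) (mlet l) := if_pos hl

theorem eF_L (F : Frame z a σ t b ι k s) (l : ℕ) (hl : l ∈ [0, 1, 7, 8, 9]) :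
    eF ι k z s l = ext5 ι (llet l) := by
  have M := F.toCModel
  simp only [List.mem_cons, List.not_mem_nil, or_false] at hl
  rcases hl with rfl | rfl | rfl | rfl | rfl
  · rw [eF_low 0 (by norm_num), M.phi_mlet.1]
    exact F.iz.symm.trans (ext_val zA rfl ι).symm
  · rw [eF_low 1 (by norm_num), M.phi_mlet.2.1, F.s4]
    exact F.ia.symm.trans (ext_val aA rfl ι).symm
  all_goals exact if_neg (by norm_num)

theorem ext_one (φ : alternatingGroup (Fin 5) →* G) : ext5 φ 1 = 1 :=
  (ext_val 1 rfl φ).trans (map_one φ)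

theorem eval_L (F : Frame z a σ t b ι k s) : ∀ w : List ℕ, (∀ l ∈ w, l ∈ [0, 1, 7, 8, 9]) →
    Perm.sign (lval w) = 1 ∧ evalW (eF ι k z s) w = ext5 ι (lval w) := by
  intro w
  induction w with
  | nil => exact fun _ => ⟨map_one _, by rw [evalW_nil]; exact (ext_one ι).symm⟩
  | cons l w ih =>
    intro h
    obtain ⟨h1, h2⟩ := ih fun x hx => h x (List.mem_cons_of_mem _ hx)
    have hl := h l List.mem_cons_self
    have hs : Perm.sign (llet l) = 1 := sign_facts.1 l (by
      simp only [List.mem_cons, List.not_mem_nil, or_false] at hl; omega)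
    have hc : lval (l :: w) = llet l * lval w := by simp [lval]
    refine ⟨by rw [hc, map_mul, hs, h1, mul_one], ?_⟩
    rw [evalW_cons, F.eF_L l hl, h2, hc, ext5_mul ι hs h1]

theorem eval_C (F : Frame z a σ t b ι k s) (w : List ℕ) (h : ∀ l ∈ w, l < 7) :
    Perm.sign (mval w).2 = 1 ∧ evalW (eF ι k z s) w = phi z s (ext5 k) (mval w) :=
  F.toCModel.phi_mval eF_low w h

theorem eF_sq (F : Frame z a σ t b ι k s) (l : ℕ) : eF ι k z s l * eF ι k z s l = 1 := by
  rcases Nat.lt_or_ge l 7 with h | h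
  · have hh : ∀ l < 7, mval [l, l] = (qn0, 1) := by decide +kernel
    obtain ⟨-, e⟩ := F.eval_C [l, l] (by simp [h])
    rw [hh l h, F.toCModel.phi_one] at e
    simpa [evalW] using e
  · rcases Nat.lt_or_ge l 10 with h' | h'
    · have hh : ∀ l < 10, lval [l, l] = 1 := by decide +kernel
      obtain ⟨-, e⟩ := F.eval_L [l, l] (by
        intro x hx
        simp only [List.mem_cons, List.not_mem_nil, or_false, or_self] at hx ⊢
        omega)
      rw [hh l h', ext_one] at e
      simpa [evalW] using e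
    · rw [eF, if_neg (by omega), llet_out h', ext_one, one_mul]

set_option maxHeartbeats 1000000 in
/-- the relators hold -/
theorem rels (F : Frame z a σ t b ι k s) : ∀ w ∈ Cert.relWords, evalW (eF ι k z s) w = 1 := by
  have M := F.toCModel
  set e := eF ι k z s with he
  set φ := phi z s (ext5 k) with hφ
  obtain ⟨pz, pa, pt, pb, -, -, pw', -, pR, pR'⟩ := M.phi_mlet
  obtain ⟨sq, sR, sR', sY, sl⟩ := sign_base
  have hm : ∀ {x y : Mo}, Perm.sign x.2 = 1 → Perm.sign y.2 = 1 → φ (mmul x y) = φ x * φ y :=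
    fun hx hy => M.phi_mul hx hy
  have he2 : e 2 = t := (eF_low 2 (by norm_num)).trans (pt.trans ((ext_val zA rfl k).trans F.kt))
  have he3 : e 3 = b := (eF_low 3 (by norm_num)).trans (pb.trans ((ext_val aA rfl k).trans F.kb))
  have he6 : e 6 = k wA := (eF_low 6 (by norm_num)).trans (pw'.trans (ext_val wA rfl k))
  intro w hw
  simp only [Cert.relWords, List.mem_append] at hw
  rcases hw with (((hw | hw) | hw) | hw) | hw
  · have h := (List.all_eq_true.mp cR_ok) w hw
    rw [Bool.and_eq_true, decide_eq_true_eq, List.all_eq_true] at h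
    rw [he, (F.eval_C w fun l hl => of_decide_eq_true (h.1 l hl)).2, h.2, M.phi_one]
  · have h := (List.all_eq_true.mp lR_ok) w hw
    rw [Bool.and_eq_true, decide_eq_true_eq, List.all_eq_true] at h
    rw [he, (F.eval_L w fun l hl => of_decide_eq_true (h.1 l hl)).2, h.2, ext_one]
  · -- `B` and `L` commute
    have hl : ∀ l, l ∈ [7, 8, 9] → t * e l = e l * t ∧ b * e l = e l * b := by
      intro l hl
      have hlt : l < 10 := by simp only [List.mem_cons, List.not_mem_nil, or_false] at hl; omega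
      have hel : e l = ι ⟨llet l, Perm.mem_alternatingGroup.mpr (sign_facts.1 l hlt)⟩ := by
        refine (F.eF_L l ?_).trans
          (ext_val ⟨llet l, Perm.mem_alternatingGroup.mpr (sign_facts.1 l hlt)⟩ rfl ι)
        simp only [List.mem_cons, List.not_mem_nil, or_false] at hl ⊢
        omega
      rw [hel, ← F.kt, ← F.kb]
      exact ⟨F.kι zA fix_four.1 _, F.kι aA fix_four.2.1 _⟩
    have key : ∀ x l, x * x = 1 → l ∈ [7, 8, 9] → x * e l = e l * x → x * (e l * (x * e l)) = 1 := by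
      intro x l hx _ hc
      calc x * (e l * (x * e l)) = x * (e l * (e l * x)) := by rw [hc]
        _ = x * x := by rw [← mul_assoc (e l), F.eF_sq, one_mul]
        _ = 1 := hx
    have htt : t * t = 1 := by rw [← he2]; exact F.eF_sq 2
    have hbb : b * b = 1 := by rw [← he3]; exact F.eF_sq 3
    simp only [Cert.bR, List.mem_cons, List.not_mem_nil, or_false] at hw
    rcases hw with rfl | rfl | rfl | rfl | rfl | rfl <;>
      simp only [evalW_cons, evalW_nil, mul_one, he2, he3]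
    · exact key t 7 htt (by simp) (hl 7 (by simp)).1
    · exact key t 8 htt (by simp) (hl 8 (by simp)).1
    · exact key t 9 htt (by simp) (hl 9 (by simp)).1
    · exact key b 7 hbb (by simp) (hl 7 (by simp)).2
    · exact key b 8 hbb (by simp) (hl 8 (by simp)).2
    · exact key b 9 hbb (by simp) (hl 9 (by simp)).2
  · -- conjugation by `σ`
    obtain ⟨hsR, lS, lS', m1, k1, m2, k2, m3, k3, x1, x4, xs, k4⟩ := sR_ok
    have hS : evalW e [0, 8, 1, 9] = σ := by
      rw [he, (F.eval_L _ (by simp)).2, lS]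
      exact (ext_val sA rfl ι).trans F.is
    have hS' : evalW e [9, 1, 8, 0] = σ⁻¹ := by
      rw [he, (F.eval_L _ (by simp)).2, lS']
      exact (ext_val sA⁻¹ rfl ι).trans ((map_inv ι sA).trans (congrArg Inv.inv F.is))
    have body : ∀ X W : List ℕ, (∀ l ∈ X, l < 7) → (∀ l ∈ W, l < 7) →
        σ * φ (mval X) * σ⁻¹ * φ (mval W) = 1 →
        evalW e ([0, 8, 1, 9] ++ X ++ [9, 1, 8, 0] ++ W) = 1 := by
      intro X W hX hW h
      rw [evalW_append, evalW_append, evalW_append, hS, hS', he, (F.eval_C X hX).2, (F.eval_C W hW).2]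
      exact h
    have pR1 : φ mR = k sA := pR.trans (ext_val sA rfl k)
    have pR2 : φ mR' = (k sA)⁻¹ := pR'.trans ((ext_val sA⁻¹ rfl k).trans (map_inv k sA))
    have hRσ : k sA * σ = σ * k sA := by
      rw [← F.is]; exact F.kι sA fp_facts.2.2.2.2.2.2.2 sA
    have hq : σ * φ mq * σ⁻¹ = φ mY := F.conj_q
    have hW : ∀ W : List ℕ, (∀ l ∈ W, l < 7) → Perm.sign (mval W).2 = 1 := fun W h => (F.eval_C W h).1
    have hfix : ∀ X W : Mo, X.1 = qn0 → X.2 4 = 4 → Perm.sign X.2 = 1 → Perm.sign W.2 = 1 →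
        mmul X W = (qn0, 1) → σ * φ X * σ⁻¹ * φ W = 1 := by
      rintro ⟨n, π⟩ W hn h4 h1 hW1 h
      obtain rfl : n = qn0 := hn
      have hX : φ (qn0, π) = k ⟨π, Perm.mem_alternatingGroup.mpr h1⟩ := by
        show qel z s qn0 * ext5 k π = _
        rw [CModel.qel_zero, one_mul]
        exact ext_val ⟨π, Perm.mem_alternatingGroup.mpr h1⟩ rfl k
      have hc : φ (qn0, π) * σ = σ * φ (qn0, π) := by
        rw [hX, ← F.is]; exact F.kι ⟨π, Perm.mem_alternatingGroup.mpr h1⟩ h4 sA
      rw [← hc, mul_inv_cancel_right, ← hm h1 hW1, h]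
      exact M.phi_one
    rw [hsR] at hw
    simp only [List.mem_cons, List.not_mem_nil, or_false] at hw
    rcases hw with rfl | rfl | rfl | rfl
    · refine body [4, 2, 4, 2] [2, 4, 5, 3] (by simp) (by simp) ?_
      rw [m1, hq, ← hm sY (hW _ (by simp)), k1]
      exact M.phi_one
    · refine body [4, 5] [5, 2, 4] (by simp) (by simp) ?_
      rw [m2, hm (sign_m sR sq) sR', hm sR sq]
      have e1 : σ * (φ mR * φ mq * φ mR') * σ⁻¹ = φ mR * φ mY * φ mR' := by
        rw [← hq, pR1, pR2]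
        calc σ * (k sA * φ mq * (k sA)⁻¹) * σ⁻¹
            = (σ * k sA) * φ mq * ((k sA)⁻¹ * σ⁻¹) := by group
          _ = (k sA * σ) * φ mq * (σ * k sA)⁻¹ := by rw [hRσ, mul_inv_rev]
          _ = (k sA * σ) * φ mq * (k sA * σ)⁻¹ := by rw [hRσ]
          _ = _ := by group
      rw [e1, ← hm sR sY, ← hm (sign_m sR sY) sR', ← hm (sign_m (sign_m sR sY) sR') (hW _ (by simp)), k2]
      exact M.phi_one
    · refine body [4, 2, 5, 2] [2, 5, 2, 5, 3] (by simp) (by simp) ?_
      rw [m3, hm (sign_m sR' sq) sR, hm sR' sq]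
      have e1 : σ * (φ mR' * φ mq * φ mR) * σ⁻¹ = φ mR' * φ mY * φ mR := by
        rw [← hq, pR1, pR2]
        have h' : (k sA)⁻¹ * σ = σ * (k sA)⁻¹ := Commute.inv_left hRσ
        calc σ * ((k sA)⁻¹ * φ mq * k sA) * σ⁻¹
            = (σ * (k sA)⁻¹) * φ mq * (σ * (k sA)⁻¹)⁻¹ := by group
          _ = ((k sA)⁻¹ * σ) * φ mq * ((k sA)⁻¹ * σ)⁻¹ := by rw [h']
          _ = _ := by group
      rw [e1, ← hm sR' sY, ← hm (sign_m sR' sY) sR, ← hm (sign_m (sign_m sR' sY) sR) (hW _ (by simp)), k3]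
      exact M.phi_one
    · refine body [3, 6, 3, 6, 2, 3, 6] [6, 3, 2, 6, 3, 6, 3] (by simp) (by simp) ?_
      exact hfix _ _ x1 x4 xs (hW _ (by simp)) k4
  · -- the centraliser of the element of order five
    have hF : evalW e [1, 8, 9, 1] = ι fA := by
      rw [he, (F.eval_L _ (by simp)).2, fp_facts.2.2.2.1]
      exact ext_val fA rfl ι
    have hF' : evalW e [1, 9, 8, 1] = (ι fA)⁻¹ := by
      rw [he, (F.eval_L _ (by simp)).2, fp_facts.2.2.2.2.1]
      exact (ext_val fA⁻¹ rfl ι).trans (map_inv ι fA)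
    have key : ∀ x (π : alternatingGroup (Fin 5)), e x = k π → evalW e ([1, 8, 9, 1] ++ [x] ++ [1, 9, 8, 1] ++ [x]) = 1 := by
      intro x π hx
      have hcom : ι fA * e x = e x * ι fA := by rw [hx]; exact (F.kf π).symm
      rw [evalW_append, evalW_append, evalW_append, hF, hF', evalW_cons, evalW_nil, mul_one, hcom,
        mul_inv_cancel_right]
      exact F.eF_sq x
    simp only [Cert.kR, List.mem_cons, List.not_mem_nil, or_false] at hw
    rcases hw with rfl | rfl | rfl
    · exact key 2 zA (he2.trans F.kt.symm)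
    · exact key 3 aA (he3.trans F.kb.symm)
    · exact key 6 wA he6

end Frame

/-- Uniqueness of J2. -/
theorem iso_j2 {z : G} {Q : Subgroup G} (D : JSet z Q) : Cfsg.Spor.IsoJ2 G := by
  obtain ⟨D', t, a, σ, L, b, i, j, N⟩ := exists_nset D
  obtain ⟨ι, k, s, F, -⟩ := N.exists_frame
  refine Cert.isoJ2_of_rels (D'.card_eq N.toLSet).1 (Frame.eF ι k z s) F.eF_sq F.rels ?_
  rw [Frame.eF_low 0 (by norm_num), F.toCModel.phi_mlet.1]
  exact D.base.z_ne_one

end Cfsg.Agent.H43.JTwo.Uniq
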