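import Mathlib
import Cfsg.Agent.H43.JTwo.Cert.Words

/-!
The concrete model of `C = Q.A₅` and of `L ≅ A₅` used to derive the relators of J2.
-/

set_option autoImplicit false
set_option linter.style.haveILetI false
set_option linter.unusedSimpArgs false
set_option synthInstance.maxSize 4000
set_option synthInstance.maxHeartbeats 400000

namespace Cfsg.Agent.H43.JTwo.Uniq

open H45 Equiv

/-- exponent vectors `(z, s₀, s₁, s₂, s₃)` -/
abbrev QN : Type := Bool × Bool × Bool × Bool × Bool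

/-- the trivial vector -/
def qn0 : QN := (false, false, false, false, false)

/-- multiplication by `z` -/
def zf : QN → QN
  | (e, a, b, c, d) => (!e, a, b, c, d)

/-- left multiplication by `s₀, …, s₃` -/
def lm0 : QN → QN
  | (e, a, b, c, d) => (e, !a, b, c, d)
/-- left multiplication by `s₁` -/
def lm1 : QN → QN
  | (e, a, b, c, d) => (e ^^ a, a, !b, c, d)
/-- left multiplication by `s₂` -/
def lm2 : QN → QN
  | (e, a, b, c, d) => (e ^^ a ^^ b, a, b, !c, d)
/-- left multiplication by `s₃` -/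
def lm3 : QN → QN
  | (e, a, b, c, d) => (e ^^ a ^^ b ^^ c, a, b, c, !d)

/-- left multiplication by `s j` -/
def lm : Fin 5 → QN → QN :=
  ![lm0, lm1, lm2, lm3, fun n => lm0 (lm1 (lm2 (lm3 n)))]

/-- apply when set -/
def ap? (b : Bool) (f : QN → QN) (n : QN) : QN := cond b (f n) n

/-- product -/
def qmul : QN → QN → QN
  | (e, a, b, c, d), n => ap? e zf (ap? a (lm 0) (ap? b (lm 1) (ap? c (lm 2) (ap? d (lm 3) n))))

/-- the action of a permutation -/
def act (π : Perm (Fin 5)) : QN → QN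
  | (e, a, b, c, d) =>
    ap? e zf (ap? a (lm (π 0)) (ap? b (lm (π 1)) (ap? c (lm (π 2)) (ap? d (lm (π 3)) qn0))))

/-- elements of the model -/
abbrev Mo : Type := QN × Perm (Fin 5)

/-- product in the model -/
def mmul (x y : Mo) : Mo := (qmul x.1 (act x.2 y.1), x.2 * y.2)

/-- image of `t` and of `z` in `L` -/
def zp : Perm (Fin 5) := swap 0 1 * swap 2 3
/-- image of `b` and of `a` in `L` -/
def ap : Perm (Fin 5) := swap 0 2 * swap 1 3
/-- the three cycle -/
def sp : Perm (Fin 5) := swap 1 3 * swap 1 2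
/-- the third generator -/
def wp : Perm (Fin 5) := swap 0 1 * swap 2 4
/-- the fourth generator of `L` -/
def lp2 : Perm (Fin 5) := sp * wp * sp⁻¹
/-- the fifth generator of `L` -/
def lp3 : Perm (Fin 5) := sp * lp2 * sp⁻¹
/-- the element of order five -/
def fp : Perm (Fin 5) := ap * lp2 * lp3 * ap

/-- representatives of the points -/
def rp : Fin 5 → Perm (Fin 5) :=
  ![swap 0 4 * swap 1 2, swap 1 4 * swap 0 2, swap 2 4 * swap 0 1, swap 3 4 * swap 0 1, 1]

/-- letters in `C` -/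
def mlet : ℕ → Mo
  | 0 => (zf qn0, 1)
  | 1 => (lm 4 qn0, 1)
  | 2 => (qn0, zp)
  | 3 => (qn0, ap)
  | 4 => (lm 0 qn0, 1)
  | 5 => (lm 2 qn0, 1)
  | 6 => (qn0, wp)
  | _ => (qn0, 1)

/-- value of a word in `C` -/
def mval (w : List ℕ) : Mo := w.foldr (fun l x => mmul (mlet l) x) (qn0, 1)

/-- letters in `L` -/
def llet : ℕ → Perm (Fin 5)
  | 0 => zp
  | 1 => ap
  | 7 => wp
  | 8 => lp2
  | 9 => lp3
  | _ => 1

/-- value of a word in `L` -/
def lval (w : List ℕ) : Perm (Fin 5) := (w.map llet).prod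

/-- the image of `q = s₀ s₁` under `σ` -/
def mY : Mo := ((false, true, false, true, false), zp * ap)
/-- `q` -/
def mq : Mo := (lm 0 (lm 1 qn0), 1)
/-- the three-element of `C` commuting with `σ` -/
def mR : Mo := (qn0, sp)
/-- its inverse -/
def mR' : Mo := (qn0, sp⁻¹)

theorem sign_facts : (∀ l < 10, Perm.sign (llet l) = 1) ∧ (∀ l < 7, Perm.sign (mlet l).2 = 1) ∧
    Perm.sign zp = 1 ∧ Perm.sign ap = 1 ∧ Perm.sign sp = 1 ∧ Perm.sign wp = 1 ∧ Perm.sign fp = 1 ∧
    (∀ j, Perm.sign (rp j) = 1) ∧ (∀ j, rp j 4 = j) := by decide +kernel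

theorem cR_ok : Cert.cR.all (fun w => w.all (fun l => decide (l < 7)) && decide (mval w = (qn0, 1))) = true := by
  decide +kernel

theorem lR_ok : Cert.lR.all (fun w => w.all (fun l => decide (l ∈ [0, 1, 7, 8, 9])) &&
    decide (lval w = 1)) = true := by decide +kernel

/-- the words conjugated by `σ` -/
theorem sR_ok : Cert.sR = [
    [0, 8, 1, 9] ++ [4, 2, 4, 2] ++ [9, 1, 8, 0] ++ [2, 4, 5, 3],
    [0, 8, 1, 9] ++ [4, 5] ++ [9, 1, 8, 0] ++ [5, 2, 4],
    [0, 8, 1, 9] ++ [4, 2, 5, 2] ++ [9, 1, 8, 0] ++ [2, 5, 2, 5, 3],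
    [0, 8, 1, 9] ++ [3, 6, 3, 6, 2, 3, 6] ++ [9, 1, 8, 0] ++ [6, 3, 2, 6, 3, 6, 3]] ∧
    lval [0, 8, 1, 9] = sp ∧ lval [9, 1, 8, 0] = sp⁻¹ ∧
    mval [4, 2, 4, 2] = mq ∧ mmul mY (mval [2, 4, 5, 3]) = (qn0, 1) ∧
    mval [4, 5] = mmul (mmul mR mq) mR' ∧ mmul (mmul (mmul mR mY) mR') (mval [5, 2, 4]) = (qn0, 1) ∧
    mval [4, 2, 5, 2] = mmul (mmul mR' mq) mR ∧
      mmul (mmul (mmul mR' mY) mR) (mval [2, 5, 2, 5, 3]) = (qn0, 1) ∧
    (mval [3, 6, 3, 6, 2, 3, 6]).1 = qn0 ∧ (mval [3, 6, 3, 6, 2, 3, 6]).2 4 = 4 ∧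
      Perm.sign (mval [3, 6, 3, 6, 2, 3, 6]).2 = 1 ∧
      mmul (mval [3, 6, 3, 6, 2, 3, 6]) (mval [6, 3, 2, 6, 3, 6, 3]) = (qn0, 1) := by decide +kernel

/-- relations of `q` -/
theorem q_facts : mmul mq mq = mlet 0 ∧ mmul (mmul (mlet 2) mq) (mlet 2) = mmul mq (mlet 0) ∧
    mmul (mmul (mlet 3) mq) (mlet 3) = mmul mq (mmul (mlet 0) (mlet 1)) ∧
    mmul (mmul mq (mmul (mmul mR mq) mR')) (mmul (mmul mR' mq) mR) = mmul (mlet 0) (mlet 1) ∧
    mmul mq (mmul (mlet 0) (mlet 1)) = mmul (mmul (mlet 0) (mlet 1)) mq := by decide +kernel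

/-- the image of `q` is determined -/
theorem y_unique : ∀ π : Perm (Fin 5), Perm.sign π = 1 → ∀ n : QN,
    mmul (n, π) (mlet 1) = mmul (mlet 1) (n, π) →
    mmul (n, π) (n, π) = mlet 1 →
    mmul (mmul (mlet 2) (n, π)) (mlet 2) = mmul (n, π) (mlet 1) →
    mmul (mmul (mlet 3) (n, π)) (mlet 3) = mmul (n, π) (mlet 0) →
    mmul (mmul (n, π) (mmul (mmul mR (n, π)) mR')) (mmul (mmul mR' (n, π)) mR) = mlet 0 →
    (n, π) = mY := by decide +kernel

/-- The concrete data of `C`. -/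
structure CModel {G : Type*} [Group G] (z : G) (s : Fin 5 → G) (k : Perm (Fin 5) → G) : Prop where
  zz : z * z = 1
  zs : ∀ j, s j * z = z * s j
  ss : ∀ j, s j * s j = 1
  anti : ∀ i j, i ≠ j → s j * s i = z * (s i * s j)
  prod : s 0 * s 1 * s 2 * s 3 * s 4 = 1
  kmul : ∀ π ρ, Perm.sign π = 1 → Perm.sign ρ = 1 → k (π * ρ) = k π * k ρ
  kz : ∀ π, k π * z = z * k π
  equiv : ∀ π, Perm.sign π = 1 → ∀ j, k π * s j * (k π)⁻¹ = s (π j)

/-- conditional power -/
def pw {G : Type*} [Group G] (b : Bool) (x : G) : G := cond b x 1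

/-- the element of `Q` -/
def qel {G : Type*} [Group G] (z : G) (s : Fin 5 → G) : QN → G
  | (e, a, b, c, d) => pw e z * (pw a (s 0) * (pw b (s 1) * (pw c (s 2) * pw d (s 3))))

/-- the element of `C` -/
def phi {G : Type*} [Group G] (z : G) (s : Fin 5 → G) (k : Perm (Fin 5) → G) (x : Mo) : G :=
  qel z s x.1 * k x.2

namespace CModel

variable {G : Type*} [Group G] {z : G} {s : Fin 5 → G} {k : Perm (Fin 5) → G}

theorem s_four (M : CModel z s k) : s 4 = s 0 * (s 1 * (s 2 * s 3)) := by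
  have hP : ∀ x : G, x * s 4 = 1 → s 4 = x := fun x hx => by
    calc s 4 = x⁻¹ := (inv_eq_of_mul_eq_one_right hx).symm
      _ = x := by
        rw [inv_eq_iff_mul_eq_one]
        have : x = (s 4)⁻¹ := eq_inv_of_mul_eq_one_left hx
        rw [this, ← mul_inv_rev, M.ss, inv_one]
  rw [hP _ M.prod]
  simp only [mul_assoc]

theorem qel_zf (M : CModel z s k) (n : QN) : qel z s (zf n) = z * qel z s n := by
  obtain ⟨e, a, b, c, d⟩ := n
  cases e <;> simp [qel, zf, pw, ← mul_assoc z z, M.zz]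

theorem qel_lm (M : CModel z s k) (j : Fin 5) (n : QN) : qel z s (lm j n) = s j * qel z s n := by
  have h1 : ∀ i x, s i * (z * x) = z * (s i * x) := fun i x => by rw [← mul_assoc, M.zs, mul_assoc]
  have h2 : ∀ i x, s i * (s i * x) = x := fun i x => by rw [← mul_assoc, M.ss, one_mul]
  have h3 : ∀ x, z * (z * x) = x := fun x => by rw [← mul_assoc, M.zz, one_mul]
  have h4 : ∀ i l, i < l → ∀ x, s l * (s i * x) = z * (s i * (s l * x)) := fun i l h x => by
    rw [← mul_assoc, M.anti i l (ne_of_lt h)]; simp only [mul_assoc]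
  have a10 := h4 0 1 (by decide); have a20 := h4 0 2 (by decide); have a30 := h4 0 3 (by decide)
  have a21 := h4 1 2 (by decide); have a31 := h4 1 3 (by decide); have a32 := h4 2 3 (by decide)
  have b10 := M.anti 0 1 (by decide); have b20 := M.anti 0 2 (by decide)
  have b30 := M.anti 0 3 (by decide); have b21 := M.anti 1 2 (by decide)
  have b31 := M.anti 1 3 (by decide); have b32 := M.anti 2 3 (by decide)
  have base : ∀ n : QN, qel z s (lm0 n) = s 0 * qel z s n ∧ qel z s (lm1 n) = s 1 * qel z s n ∧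
      qel z s (lm2 n) = s 2 * qel z s n ∧ qel z s (lm3 n) = s 3 * qel z s n := by
    rintro ⟨e, a, b, c, d⟩
    cases e <;> cases a <;> cases b <;> cases c <;> cases d <;>
      simp [qel, lm0, lm1, lm2, lm3, pw, h1, h2, h3, a10, a20, a30, a21, a31, a32, b10, b20, b30,
        b21, b31, b32, M.ss, M.zz, M.zs]
  fin_cases j
  · exact (base n).1
  · exact (base n).2.1
  · exact (base n).2.2.1
  · exact (base n).2.2.2
  · show qel z s (lm0 (lm1 (lm2 (lm3 n)))) = s 4 * qel z s n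
    rw [(base _).1, (base _).2.1, (base _).2.2.1, (base _).2.2.2, M.s_four]
    simp only [mul_assoc]

theorem qel_ap (M : CModel z s k) (b : Bool) (j : Fin 5) (n : QN) :
    qel z s (ap? b (lm j) n) = pw b (s j) * qel z s n := by
  cases b <;> simp [ap?, pw, M.qel_lm]

theorem qel_apz (M : CModel z s k) (b : Bool) (n : QN) :
    qel z s (ap? b zf n) = pw b z * qel z s n := by
  cases b <;> simp [ap?, pw, M.qel_zf]

theorem qel_zero : qel z s qn0 = 1 := by simp [qel, qn0, pw]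

theorem qel_qmul (M : CModel z s k) (m n : QN) : qel z s (qmul m n) = qel z s m * qel z s n := by
  obtain ⟨e, a, b, c, d⟩ := m
  rw [qmul, M.qel_apz, M.qel_ap, M.qel_ap, M.qel_ap, M.qel_ap]
  simp only [qel, mul_assoc]

theorem qel_act (M : CModel z s k) {π : Perm (Fin 5)} (hπ : Perm.sign π = 1) (n : QN) :
    qel z s (act π n) = k π * qel z s n * (k π)⁻¹ := by
  obtain ⟨e, a, b, c, d⟩ := n
  have hp : ∀ (x : Bool) (j : Fin 5), k π * pw x (s j) * (k π)⁻¹ = pw x (s (π j)) := fun x j => by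
    cases x <;> simp [pw, M.equiv π hπ j]
  have hzc : k π * pw e z * (k π)⁻¹ = pw e z := by
    cases e <;> simp [pw, M.kz π]
  have hd : ∀ x y : G, k π * (x * y) * (k π)⁻¹ = (k π * x * (k π)⁻¹) * (k π * y * (k π)⁻¹) :=
    fun x y => by group
  rw [act, M.qel_apz, M.qel_ap, M.qel_ap, M.qel_ap, M.qel_ap, qel_zero, mul_one, qel]
  simp only [hd, hp, hzc]

theorem k_one (M : CModel z s k) : k 1 = 1 := by
  have h := M.kmul 1 1 (map_one _) (map_one _)
  rw [mul_one] at h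
  exact mul_eq_left.mp h.symm

theorem phi_one (M : CModel z s k) : phi z s k (qn0, 1) = 1 := by
  rw [phi, qel_zero, M.k_one, one_mul]

theorem phi_mul (M : CModel z s k) {x y : Mo} (hx : Perm.sign x.2 = 1) (hy : Perm.sign y.2 = 1) :
    phi z s k (mmul x y) = phi z s k x * phi z s k y := by
  simp only [phi, mmul]
  rw [M.qel_qmul, M.qel_act hx, M.kmul _ _ hx hy]
  group

theorem sign_mmul {x y : Mo} (hx : Perm.sign x.2 = 1) (hy : Perm.sign y.2 = 1) :
    Perm.sign (mmul x y).2 = 1 := by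
  simp [mmul, hx, hy]

theorem phi_mlet (M : CModel z s k) : phi z s k (mlet 0) = z ∧ phi z s k (mlet 1) = s 4 ∧
    phi z s k (mlet 2) = k zp ∧ phi z s k (mlet 3) = k ap ∧ phi z s k (mlet 4) = s 0 ∧
    phi z s k (mlet 5) = s 2 ∧ phi z s k (mlet 6) = k wp ∧
    phi z s k mq = s 0 * s 1 ∧ phi z s k mR = k sp ∧ phi z s k mR' = k sp⁻¹ := by
  refine ⟨?_, ?_, ?_, ?_, ?_, ?_, ?_, ?_, ?_, ?_⟩ <;>
    simp [phi, mlet, mq, mR, mR', M.qel_zf, M.qel_lm, qel_zero, M.k_one]

/-- value of a word in `C` -/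
theorem phi_mval (M : CModel z s k) {e : ℕ → G} (he : ∀ l < 7, e l = phi z s k (mlet l)) :
    ∀ w : List ℕ, (∀ l ∈ w, l < 7) →
      Perm.sign (mval w).2 = 1 ∧ evalW e w = phi z s k (mval w) := by
  intro w
  induction w with
  | nil => exact fun _ => ⟨map_one _, by rw [evalW_nil]; exact M.phi_one.symm⟩
  | cons l w ih =>
    intro h
    obtain ⟨h1, h2⟩ := ih fun x hx => h x (List.mem_cons_of_mem _ hx)
    have hl := h l List.mem_cons_self
    have hs := sign_facts.2.1 l hl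
    refine ⟨sign_mmul hs h1, ?_⟩
    rw [evalW_cons, he l hl, h2]
    exact (M.phi_mul hs h1).symm

end CModel

end Cfsg.Agent.H43.JTwo.Uniq
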