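import Cfsg.Agent.H43.JTwo.Uniq.Model
import Cfsg.Agent.H43.JTwo.Four

/-!
Finite facts on the alternating group of degree five.
-/

set_option autoImplicit false
set_option linter.style.haveILetI false
set_option linter.unusedSimpArgs false
set_option synthInstance.maxSize 4000
set_option synthInstance.maxHeartbeats 400000

namespace Cfsg.Agent.H43.JTwo.Uniq

open Equiv

theorem std_one : ∀ x : Perm (Fin 5), IsInv5 x → ∃ g : Perm (Fin 5), g * x * g⁻¹ = zp := by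
  decide +kernel

theorem std_two : ∀ y : Perm (Fin 5), IsInv5 y → y * zp = zp * y → y ≠ zp →
    ∃ g : Perm (Fin 5), g * zp * g⁻¹ = zp ∧ g * y * g⁻¹ = ap := by decide +kernel

theorem std_three : ∀ s : Perm (Fin 5), Perm.sign s = 1 → s * zp * s⁻¹ = ap →
    s * ap * s⁻¹ = zp * ap →
    ∃ g : Perm (Fin 5), g * zp * g⁻¹ = zp ∧ g * ap * g⁻¹ = ap ∧ g * s * g⁻¹ = sp := by decide +kernel

theorem point_move : ∀ i j : Fin 5, i ≠ j → i ≠ 4 → j = 4 → ∃ g : Perm (Fin 5),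
    g 4 = 4 ∧ g 0 = i ∧ g * zp * g⁻¹ = zp ∧ g * ap * g⁻¹ = ap := by decide +kernel

theorem fix_four : zp 4 = 4 ∧ ap 4 = 4 ∧ (∀ i, zp i = i → i = 4) ∧ zp 0 = 1 ∧ ap 0 = 2 ∧
    zp 2 = 3 ∧ IsInv5 zp ∧ IsInv5 ap ∧ zp * ap = ap * zp ∧ zp ≠ ap := by
  decide +kernel

theorem std_pair {x y : Perm (Fin 5)} (hx : IsInv5 x) (hy : IsInv5 y) (hc : x * y = y * x)
    (hne : y ≠ x) : ∃ g : Perm (Fin 5), g * x * g⁻¹ = zp ∧ g * y * g⁻¹ = ap := by
  obtain ⟨g, hg⟩ := std_one x hx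
  have h1 : IsInv5 (g * y * g⁻¹) := by
    refine ⟨fun e => hy.1 (conj_eq_one_iff.mp e), ?_, by simp [hy.2.2]⟩
    rw [show g * y * g⁻¹ * (g * y * g⁻¹) = g * (y * y) * g⁻¹ by group, hy.2.1]; group
  have h2 : g * y * g⁻¹ * zp = zp * (g * y * g⁻¹) := by
    rw [← hg, show g * y * g⁻¹ * (g * x * g⁻¹) = g * (y * x) * g⁻¹ by group, ← hc]; group
  obtain ⟨h, hh1, hh2⟩ := std_two _ h1 h2 (fun e => hne (mul_left_cancel (mul_right_cancel (e.trans hg.symm))))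
  refine ⟨h * g, ?_, ?_⟩
  · rw [show h * g * x * (h * g)⁻¹ = h * (g * x * g⁻¹) * h⁻¹ by group, hg, hh1]
  · rw [show h * g * y * (h * g)⁻¹ = h * (g * y * g⁻¹) * h⁻¹ by group, hh2]

/-- Relabelling of the five points. -/
theorem relabel {τ τ' : Perm (Fin 5)} (hx : IsInv5 τ) (hy : IsInv5 τ') (hc : τ * τ' = τ' * τ)
    (hne : τ' ≠ τ) {i j : Fin 5} (hi : τ i = i) (hj : j ≠ i) :
    ∃ e : Perm (Fin 5), e 4 = i ∧ e 0 = j ∧ e * zp * e⁻¹ = τ ∧ e * ap * e⁻¹ = τ' := by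
  obtain ⟨g, hg1, hg2⟩ := std_pair hx hy hc hne
  have h4 : g i = 4 := fix_four.2.2.1 _ (by
    rw [← hg1, Perm.mul_apply, Perm.mul_apply, Equiv.Perm.inv_def, Equiv.symm_apply_apply, hi])
  obtain ⟨h, k1, k2, k3, k4⟩ := point_move (g j) 4
    (fun e => hj (g.injective (e.trans h4.symm))) (fun e => hj (g.injective (e.trans h4.symm))) rfl
  refine ⟨g⁻¹ * h, ?_, ?_, ?_, ?_⟩
  · rw [Perm.mul_apply, k1, ← h4, Equiv.Perm.inv_def, Equiv.symm_apply_apply]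
  · rw [Perm.mul_apply, k2, Equiv.Perm.inv_def, Equiv.symm_apply_apply]
  · rw [show g⁻¹ * h * zp * (g⁻¹ * h)⁻¹ = g⁻¹ * (h * zp * h⁻¹) * g by group, k3, ← hg1]; group
  · rw [show g⁻¹ * h * ap * (g⁻¹ * h)⁻¹ = g⁻¹ * (h * ap * h⁻¹) * g by group, k4, ← hg2]; group

theorem sum_sv : ∀ e : Perm (Fin 5), Coord.sv (e 0) + Coord.sv (e 1) + Coord.sv (e 2) + Coord.sv (e 3) +
    Coord.sv (e 4) = 0 := by unfold Coord.sv; decide +kernel

theorem conj_four : ∀ w : Perm (Fin 5), Perm.sign w = 1 → w * w = 1 → (w * zp) ^ 3 = 1 →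
    (w * ap) ^ 5 = 1 → (w * (zp * ap)) ^ 5 = 1 → w ≠ 1 →
    ∃ v : Perm (Fin 5), (v = 1 ∨ v = zp ∨ v = ap ∨ v = zp * ap) ∧ v * wp * v⁻¹ = w := by
  decide +kernel

theorem wp_orders : wp * wp = 1 ∧ (wp * zp) ^ 3 = 1 ∧ (wp * ap) ^ 5 = 1 ∧
    (wp * (zp * ap)) ^ 5 = 1 ∧ wp ≠ 1 ∧ wp * zp ≠ 1 ∧ wp * ap ≠ 1 ∧ sp * ap * sp⁻¹ * ap⁻¹ = zp := by
  decide +kernel

theorem stab_four : ∀ π : Perm (Fin 5), Perm.sign π = 1 → π 4 = 4 → π * zp ≠ zp * π →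
    ∀ ρ : Perm (Fin 5), Perm.sign ρ = 1 → ρ 4 = 4 →
    ∃ v : Perm (Fin 5), (v = 1 ∨ v = zp ∨ v = ap ∨ v = zp * ap) ∧ ∃ m : Fin 3, ρ = v * π ^ (m : ℕ) := by
  decide +kernel

theorem norm_four : ∀ π : Perm (Fin 5), Perm.sign π = 1 →
    (π * zp * π⁻¹ = zp ∨ π * zp * π⁻¹ = ap ∨ π * zp * π⁻¹ = zp * ap) → π 4 = 4 := by
  decide +kernel

theorem fp_facts : fp ^ 5 = 1 ∧ fp ≠ 1 ∧ zp * fp * zp⁻¹ = fp⁻¹ ∧
    lval [1, 8, 9, 1] = fp ∧ lval [1, 9, 8, 1] = fp⁻¹ ∧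
    sp * zp * sp⁻¹ = ap ∧ sp * ap * sp⁻¹ = zp * ap ∧ sp 4 = 4 := by
  decide +kernel

/-- `zp`, `ap` and `wp` generate. -/
theorem closure_gen {H : Subgroup (alternatingGroup (Fin 5))}
    {x y w : alternatingGroup (Fin 5)} (hx : (x : Perm (Fin 5)) = zp) (hy : (y : Perm (Fin 5)) = ap)
    (hw : (w : Perm (Fin 5)) = wp) (h1 : x ∈ H) (h2 : y ∈ H) (h3 : w ∈ H) : H = ⊤ := by
  haveI : Fact (Nat.Prime 2) := ⟨Nat.prime_two⟩
  haveI : Fact (Nat.Prime 3) := ⟨Nat.prime_three⟩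
  haveI : Fact (Nat.Prime 5) := ⟨by norm_num⟩
  obtain ⟨hww, h33, h55, -, hw1, hwz, hwa, -⟩ := wp_orders
  obtain ⟨-, -, -, -, -, -, hz, ha, hza, hne⟩ := fix_four
  have o3 : 3 ∣ Nat.card H := by
    have : orderOf (w * x) = 3 := by
      rw [← Subgroup.orderOf_coe, Subgroup.coe_mul, hw, hx]
      exact orderOf_eq_prime h33 hwz
    exact this ▸ H.orderOf_dvd_natCard (mul_mem h3 h1)
  have o5 : 5 ∣ Nat.card H := by
    have : orderOf (w * y) = 5 := by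
      rw [← Subgroup.orderOf_coe, Subgroup.coe_mul, hw, hy]
      exact orderOf_eq_prime h55 hwa
    have hd := H.orderOf_dvd_natCard (mul_mem h3 h2)
    rwa [this] at hd
  have o2 : 2 ∣ Nat.card H := by
    have hx2 : orderOf x = 2 := by
      rw [← Subgroup.orderOf_coe, hx]
      exact orderOf_eq_prime (by rw [pow_two]; exact hz.2.1) hz.1
    exact hx2 ▸ H.orderOf_dvd_natCard h1
  have h30 : 30 ∣ Nat.card H :=
    Nat.Coprime.mul_dvd_of_dvd_of_dvd (by norm_num : Nat.Coprime 6 5)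
      (Nat.Coprime.mul_dvd_of_dvd_of_dvd (by norm_num : Nat.Coprime 2 3) o2 o3) o5
  have h60 : Nat.card (alternatingGroup (Fin 5)) = 60 := by
    rw [Nat.card_eq_fintype_card]; rfl
  have hsplit := H.card_mul_index
  rw [h60] at hsplit
  obtain ⟨m, hm⟩ := h30
  rw [hm] at hsplit
  have hi : H.index ≤ 2 := Nat.le_of_dvd (by norm_num) ⟨m, by linarith⟩
  haveI : IsSimpleGroup (alternatingGroup (Fin 5)) := alternatingGroup.isSimpleGroup (by simp)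
  haveI : H.Normal := by
    rcases Nat.lt_or_ge H.index 2 with h | h
    · have h0 : H.index ≠ 0 := fun e => by rw [e] at hsplit; omega
      have : H = ⊤ := Subgroup.index_eq_one.mp (by omega)
      rw [this]; infer_instance
    · exact Subgroup.normal_of_index_eq_two (le_antisymm hi h)
  refine (Subgroup.Normal.eq_bot_or_eq_top (H := H) inferInstance).resolve_left fun e => ?_
  rw [e, Subgroup.mem_bot] at h1
  exact hz.1 (by rw [← hx, h1]; rfl)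

end Cfsg.Agent.H43.JTwo.Uniq
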