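import Cfsg.Agent.H43.JTwo.NormB
import Cfsg.Agent.H43.JTwo.Uniq.Alt

/-!
The standardised isomorphism of the alternating group onto `L`.
-/

set_option autoImplicit false
set_option linter.style.haveILetI false
set_option linter.unusedSectionVars false
set_option linter.unusedSimpArgs false
set_option synthInstance.maxSize 4000

namespace Cfsg.Agent.H43.JTwo.Uniq

open Subgroup Equiv

/-- `(01)(23)` -/
def zA : alternatingGroup (Fin 5) := ⟨zp, Perm.mem_alternatingGroup.mpr sign_facts.2.2.1⟩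
/-- `(02)(13)` -/
def aA : alternatingGroup (Fin 5) := ⟨ap, Perm.mem_alternatingGroup.mpr sign_facts.2.2.2.1⟩
/-- the three cycle -/
def sA : alternatingGroup (Fin 5) := ⟨sp, Perm.mem_alternatingGroup.mpr sign_facts.2.2.2.2.1⟩
/-- the third generator -/
def wA : alternatingGroup (Fin 5) := ⟨wp, Perm.mem_alternatingGroup.mpr sign_facts.2.2.2.2.2.1⟩
/-- the element of order five -/
def fA : alternatingGroup (Fin 5) := ⟨fp, Perm.mem_alternatingGroup.mpr sign_facts.2.2.2.2.2.2.1⟩

/-- Commuting involutions of a copy of `A₅` can be standardised. -/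
theorem exists_std {H : Type*} [Group H] (e : H ≃* alternatingGroup (Fin 5)) {x y : H}
    (hx : x * x = 1) (hx1 : x ≠ 1) (hy : y * y = 1) (hy1 : y ≠ 1) (hxy : x * y = y * x)
    (hne : y ≠ x) : ∃ e' : H ≃* alternatingGroup (Fin 5), e' x = zA ∧ e' y = aA := by
  have hinv : ∀ u : H, u * u = 1 → u ≠ 1 → IsInv5 (e u : Perm (Fin 5)) := fun u hu hu1 =>
    ⟨fun h => hu1 ((map_eq_one_iff e e.injective).mp (Subtype.ext h)),
      congrArg Subtype.val ((map_mul e u u).symm.trans ((congrArg e hu).trans (map_one e))),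
      Perm.mem_alternatingGroup.mp (e u).2⟩
  obtain ⟨g, g1, g2⟩ := std_pair (hinv x hx hx1) (hinv y hy hy1)
    (congrArg Subtype.val ((map_mul e x y).symm.trans ((congrArg e hxy).trans (map_mul e y x))))
    (fun h => hne (e.injective (Subtype.ext h)))
  refine ⟨e.trans (MulAut.conjNormal g), Subtype.ext ?_, Subtype.ext ?_⟩ <;>
    simp only [MulEquiv.trans_apply, MulAut.conjNormal_apply, zA, aA]
  · exact g1
  · exact g2

variable {G : Type*} [Group G] [Finite G] {z : G} {Q : Subgroup G} {D : JSet z Q} {t a σ : G}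
  {L : Subgroup G}

/-- The standard isomorphism onto `L`. -/
theorem exists_iota (S : LSet D t a σ L) :
    ∃ ι : alternatingGroup (Fin 5) →* G, Function.Injective ι ∧ (∀ π, ι π ∈ L) ∧
      ι zA = z ∧ ι aA = a ∧ ι sA = σ := by
  obtain ⟨e0⟩ := S.card_L_equiv
  set x : L := ⟨z, S.hzL⟩ with hx
  set y : L := ⟨a, S.haL⟩ with hy
  obtain ⟨e, ex, ey⟩ := exists_std e0 (x := x) (y := y) (Subtype.ext D.base.zz)
    (fun h => D.base.z_ne_one (congrArg Subtype.val h)) (Subtype.ext S.aa)
    (fun h => S.a_ne.1 (congrArg Subtype.val h)) (Subtype.ext S.az.symm)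
    (fun h => S.a_ne.2 (congrArg Subtype.val h))
  set u : L := ⟨σ, S.hσL⟩ with hu
  have c1 : e u * zA * (e u)⁻¹ = aA := by
    rw [← ex, ← ey, ← map_inv, ← map_mul, ← map_mul]
    exact congrArg e (Subtype.ext S.hσz)
  have c2 : e u * aA * (e u)⁻¹ = zA * aA := by
    rw [← ex, ← ey, ← map_inv, ← map_mul, ← map_mul, ← map_mul]
    exact congrArg e (Subtype.ext S.hσa)
  obtain ⟨g, g1, g2, g3⟩ := std_three _ (Perm.mem_alternatingGroup.mp (e u).2)
    (congrArg Subtype.val c1) (congrArg Subtype.val c2)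
  let e' : L ≃* alternatingGroup (Fin 5) := e.trans (MulAut.conjNormal g)
  have hval : ∀ l : L, ∀ π : alternatingGroup (Fin 5),
      g * (e l : Perm (Fin 5)) * g⁻¹ = π → ((e'.symm π : L) : G) = l := by
    intro l π h
    have h2 : e' l = π := Subtype.ext (by simpa [e'] using h)
    rw [← h2, MulEquiv.symm_apply_apply]
  refine ⟨L.subtype.comp e'.symm.toMonoidHom, L.subtype_injective.comp e'.symm.injective,
    fun π => (e'.symm π).2, ?_, ?_, ?_⟩
  · exact hval x zA (by rw [ex]; exact g1)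
  · exact hval y aA (by rw [ey]; exact g2)
  · exact hval u sA g3

end Cfsg.Agent.H43.JTwo.Uniq
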