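import Cfsg.Agent.H43.JTwo.Five
import Cfsg.Agent.H43.JTwo.Uniq.Iota
import Cfsg.Agent.H66.OrderSixty

/-!
The copy of `A₅` in `C(f) ∩ C(z)`, for an element `f` of order five inverted by `z`.
-/

set_option autoImplicit false
set_option linter.style.haveILetI false
set_option linter.unusedSectionVars false
set_option linter.unusedSimpArgs false
set_option synthInstance.maxSize 4000

namespace Cfsg.Agent.H43.JTwo.Uniq

open Subgroup Equiv

variable {G : Type*} [Group G] [Finite G] {z : G} {Q : Subgroup G} {D : JSet z Q} {t a σ f : G}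
  {L : Subgroup G}

/-- An element inverting `f` with trivial action on `C(f)/⟨f⟩` centralises a complement. -/
theorem complement_iso {u : G} (hf : orderOf f = 5) (_huu : u * u = 1) (huf : u * f * u⁻¹ = f⁻¹)
    (htriv : ∀ (c : G), c * f = f * c → c⁻¹ * (u * c * u⁻¹) ∈ zpowers f) :
    ∃ θ : ↥(centralizer ({f} : Set G) ⊓ centralizer ({u} : Set G)) ≃* CQ f,
      ∀ (c : ↥(centralizer ({f} : Set G) ⊓ centralizer ({u} : Set G))) (hc : (c : G) * f = f * c),
        θ c = qm f hc := by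
  let g : ↥(centralizer ({f} : Set G) ⊓ centralizer ({u} : Set G)) →* CQ f :=
    (QuotientGroup.mk' _).comp (inclusion inf_le_left)
  have hodd : Odd (orderOf f) := by rw [hf]; decide
  have hinvw : ∀ w ∈ zpowers f, u * w * u⁻¹ = w⁻¹ := by
    intro w hw
    obtain ⟨n, rfl⟩ := mem_zpowers_iff.mp hw
    rw [← conj_zpow, huf, inv_zpow]
  have hg : Function.Bijective g := by
    constructor
    · rw [injective_iff_map_eq_one]
      intro c hc
      have hcw : (c : G) ∈ zpowers f :=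
        (qm_eq_one (x := f) (mem_centralizer_singleton_iff.mp (mem_inf.mp c.2).1)).mp hc
      have h1 : (c : G)⁻¹ = c := by
        rw [← hinvw _ hcw, ← mem_centralizer_singleton_iff.mp (mem_inf.mp c.2).2, mul_inv_cancel_right]
      exact Subtype.ext (eq_one_of_invol hodd hcw (inv_eq_iff_mul_eq_one.mp h1))
    · intro v
      obtain ⟨c, hc, rfl⟩ := qm_surj f v
      set d := c⁻¹ * (u * c * u⁻¹) with hd
      have hdw := htriv c hc
      have hd5 : d ^ 5 = 1 := by
        rw [← hf]; exact orderOf_dvd_iff_pow_eq_one.mp (orderOf_dvd_of_mem_zpowers hdw)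
      have hcd : c * d ^ 3 * f = f * (c * d ^ 3) :=
        Commute.mul_left hc (Commute.pow_left ((comm_of_mem_zpowers hdw rfl).symm) 3)
      have hu : u * (c * d ^ 3) * u⁻¹ = c * d ^ 3 := by
        calc u * (c * d ^ 3) * u⁻¹ = (u * c * u⁻¹) * (u * d * u⁻¹) ^ 3 := by rw [conj_pow]; group
          _ = c * d * (d⁻¹) ^ 3 := by rw [hinvw d hdw, hd]; group
          _ = c * (d ^ 5 * (d ^ 2)⁻¹) := by rw [hd5]; group
          _ = _ := by group
      refine ⟨⟨c * d ^ 3, mem_inf.mpr ⟨mem_centralizer_singleton_iff.mpr hcd,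
        mem_centralizer_singleton_iff.mpr (mul_inv_eq_iff_eq_mul.mp hu).symm⟩⟩, ?_⟩
      show qm f hcd = qm f hc
      refine (qm_eq _ _).mpr ?_
      rw [mul_inv_rev, inv_mul_cancel_right]
      exact inv_mem (pow_mem hdw 3)
  exact ⟨MulEquiv.ofBijective g hg, fun c hc => rfl⟩

/-- `C(f)/⟨f⟩ ≅ A₅` with the images of `t`, `b` standard. -/
theorem quot_std (S : LSet D t a σ L) (hfL : f ∈ L) (hf : orderOf f = 5) {b : G}
    (hb : b ∈ bGroup z t σ) (hb1 : b ≠ 1) (hbt : b ≠ t) :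
    ∃ e : CQ f ≃* alternatingGroup (Fin 5),
      e (qm f (S.bc S.bGroup_props.2.2.2.2 hfL)) = zA ∧ e (qm f (S.bc hb hfL)) = aA := by
  haveI : Fact (Nat.Prime 5) := ⟨by norm_num⟩
  obtain ⟨P, hP⟩ := exists_sylow_mem hf
  have F : FSet D t a σ L f P := ⟨S, hf, hfL, hP⟩
  have h60 : Nat.card (CQ f) = 60 := by
    have h := card_cq f
    rw [F.card_cen, hf] at h
    omega
  obtain ⟨-, -, -, hB4, htB⟩ := S.bGroup_props
  have hodd : Odd (orderOf f) := by rw [hf]; decide
  have key : ∀ x (hx : x ∈ bGroup z t σ), x ≠ 1 →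
      qm f (S.bc hx hfL) * qm f (S.bc hx hfL) = 1 ∧ qm f (S.bc hx hfL) ≠ 1 ∧
      Nat.card ↥(centralizer ({qm f (S.bc hx hfL)} : Set (CQ f))) = 4 := by
    intro x hx hx1
    refine ⟨?_, fun e => hx1 (eq_one_of_invol hodd ((qm_eq_one _).mp e) (S.bsq hx)), ?_⟩
    · rw [qm_mul]; exact (qm_eq_one _).mpr (by rw [S.bsq hx]; exact one_mem _)
    obtain ⟨e⟩ := cent_equiv (H := bGroup z t σ) hodd (S.bc hx hfL) (S.bsq hx)
      (fun c hc => ⟨S.bc hc hfL, S.bcomm hc hx⟩)
      (fun c hc hcx => S.bL_disj hc (zpowers_le.mpr hfL hcx))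
      (fun c hc hcx => S.cen_x_t hfL F.hp hc (by
        have : c ∈ centralizer ({x} : Set G) := mem_centralizer_singleton_iff.mpr hcx
        rw [S.cent_B hx hx1] at this
        exact mem_centralizer_singleton_iff.mp this))
    rw [← Nat.card_congr e.toEquiv, hB4]
  have htb : t * b ∈ bGroup z t σ := mul_mem htB hb
  have htb1 : t * b ≠ 1 := fun e => hbt ((eq_inv_of_mul_eq_one_right e).trans
    (inv_eq_of_mul_eq_one_left S.ht))
  have hns : Nat.card (Sylow 5 (CQ f)) ≠ 1 := by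
    intro h1
    haveI : Subsingleton (Sylow 5 (CQ f)) := (Nat.card_eq_one_iff_unique.mp h1).1
    obtain ⟨c, hc⟩ := exists_prime_orderOf_dvd_card' (G := CQ f) 5 (by rw [h60]; norm_num)
    obtain ⟨T, hT⟩ := (IsPGroup.of_card (G := zpowers c) (n := 1)
      (by rw [Nat.card_zpowers, hc, pow_one]) : IsPGroup 5 (zpowers c)).exists_le_sylow
    haveI := Sylow.normal_of_subsingleton T
    have hTc : zpowers c = (T : Subgroup (CQ f)) := eq_of_le_of_card_ge hT (by
      rw [Nat.card_zpowers, hc, sylow_card_of (k := 1) (m := 12) (by rw [h60]; norm_num) (by norm_num) T,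
        pow_one])
    have hinv : ∀ x (hx : x ∈ bGroup z t σ), x ≠ 1 →
        qm f (S.bc hx hfL) * c * (qm f (S.bc hx hfL))⁻¹ = c⁻¹ := by
      intro x hx hx1
      obtain ⟨hsq, -, hc4⟩ := key x hx hx1
      set v := qm f (S.bc hx hfL) with hv
      have hvi : v⁻¹ = v := inv_eq_of_mul_eq_one_left hsq
      have hmem : v * c * v⁻¹ ∈ zpowers c := by
        rw [hTc]
        exact Normal.conj_mem inferInstance c (hTc ▸ mem_zpowers c) v
      obtain ⟨k, hk⟩ := mem_zpowers_pow (n := 5) (by rw [← hc]; exact pow_orderOf_eq_one c) hmem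
      have h2 : c ^ ((k : ℕ) * (k : ℕ)) = c ^ 1 := by
        rw [pow_mul, ← hk, conj_pow, ← hk, pow_one, hvi, ← mul_assoc, ← mul_assoc, hsq, one_mul,
          mul_assoc, hsq, mul_one]
      have hmod : (k : ℕ) * (k : ℕ) % 5 = 1 := by
        have := pow_inj_mod.mp h2
        rwa [hc] at this
      have h14 : ∀ k : Fin 5, (k : ℕ) * (k : ℕ) % 5 = 1 → k = 1 ∨ k = 4 := by decide
      rcases h14 k hmod with rfl | rfl
      · exfalso
        rw [show ((1 : Fin 5) : ℕ) = 1 from rfl, pow_one] at hk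
        have h5 := (centralizer ({v} : Set (CQ f))).orderOf_dvd_natCard
          (mem_centralizer_singleton_iff.mpr (mul_inv_eq_iff_eq_mul.mp hk).symm : c ∈ _)
        rw [hc, hc4] at h5
        norm_num at h5
      · rw [hk, show ((4 : Fin 5) : ℕ) = 4 from rfl]
        refine eq_inv_of_mul_eq_one_left ?_
        rw [← pow_succ]
        exact orderOf_dvd_iff_pow_eq_one.mp (by rw [hc])
    have h3 := hinv _ htb htb1
    have hm : qm f (S.bc htb hfL) = qm f (S.bc htB hfL) * qm f (S.bc hb hfL) := rfl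
    rw [hm, show qm f (S.bc htB hfL) * qm f (S.bc hb hfL) * c *
      (qm f (S.bc htB hfL) * qm f (S.bc hb hfL))⁻¹ = qm f (S.bc htB hfL) *
        (qm f (S.bc hb hfL) * c * (qm f (S.bc hb hfL))⁻¹) * (qm f (S.bc htB hfL))⁻¹ by group,
      hinv b hb hb1, ← conj_inv, hinv t htB S.t_ne_one, inv_inv] at h3
    have h2 := orderOf_dvd_of_pow_eq_one (show c ^ 2 = 1 by rw [pow_two]; nth_rw 2 [h3]; exact mul_inv_cancel c)
    rw [hc] at h2
    norm_num at h2
  obtain ⟨e0⟩ := H66.iso_altFive h60 hns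
  exact exists_std e0 (key t htB S.t_ne_one).1 (key t htB S.t_ne_one).2.1 (key b hb hb1).1
    (key b hb hb1).2.1 (by rw [qm_mul, qm_mul]; exact qm_congr _ _ (S.bcomm htB hb))
    (fun h => hbt (eq_of_qm_invol hodd _ _ (S.bsq hb) S.ht h))

/-- Commutators in `C(t)` lie in `L`. -/
theorem comm_mem_L (S : LSet D t a σ L) {c d : G} (hc : c * t = t * c) (hd : d * t = t * d) :
    c * d * c⁻¹ * d⁻¹ ∈ L := by
  obtain ⟨l, hl, x, hx, rfl⟩ := S.decomp hc
  obtain ⟨m, hm, y, hy, rfl⟩ := S.decomp hd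
  have e : l * x * (m * y) * (l * x)⁻¹ * (m * y)⁻¹ = l * m * l⁻¹ * m⁻¹ := by
    have h1 : x * (m * y) * x⁻¹ = m * y := by
      rw [mul_inv_eq_iff_eq_mul]
      exact Commute.mul_right (S.bc hx hm) (S.bcomm hx hy)
    have h2 : y * l⁻¹ = l⁻¹ * y := S.bc hy (inv_mem hl)
    calc l * x * (m * y) * (l * x)⁻¹ * (m * y)⁻¹ = l * (x * (m * y) * x⁻¹) * l⁻¹ * (m * y)⁻¹ := by group
      _ = l * m * (y * l⁻¹) * (y⁻¹ * m⁻¹) := by rw [h1]; group
      _ = _ := by rw [h2]; group
  rw [e]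
  exact mul_mem (mul_mem (mul_mem hl hm) (inv_mem hl)) (inv_mem hm)

/-- The copy of `A₅`. -/
theorem exists_kappa (S : LSet D t a σ L) (hfL : f ∈ L) (hf : orderOf f = 5)
    (hzf : z * f * z⁻¹ = f⁻¹) {b : G} (hb : b ∈ bGroup z t σ) (hb1 : b ≠ 1) (hbt : b ≠ t) :
    ∃ κ : alternatingGroup (Fin 5) →* G, Function.Injective κ ∧
      (∀ π, κ π * z = z * κ π ∧ κ π * f = f * κ π) ∧
      (∀ c : G, c * z = z * c → c * f = f * c → ∃ π, κ π = c) ∧ κ zA = t ∧ κ aA = b := by
  obtain ⟨e, et, eb⟩ := quot_std S hfL hf hb hb1 hbt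
  obtain ⟨-, -, -, -, htB⟩ := S.bGroup_props
  -- conjugation by `z` on the quotient
  have hzc : ∀ c : G, c * f = f * c → z * c * z⁻¹ * f = f * (z * c * z⁻¹) := by
    intro c hc
    have hc' : c * f⁻¹ = f⁻¹ * c := Commute.inv_right hc
    have e1 : z * (f⁻¹) * z⁻¹ = f := by rw [← conj_inv, hzf, inv_inv]
    calc z * c * z⁻¹ * f = z * c * z⁻¹ * (z * f⁻¹ * z⁻¹) := by rw [e1]
      _ = z * (c * f⁻¹) * z⁻¹ := by group
      _ = z * (f⁻¹ * c) * z⁻¹ := by rw [hc']
      _ = (z * f⁻¹ * z⁻¹) * (z * c * z⁻¹) := by group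
      _ = _ := by rw [e1]
  let α0 : ↥(centralizer ({f} : Set G)) →* CQ f :=
    { toFun := fun c => qm f (hzc c (mem_centralizer_singleton_iff.mp c.2))
      map_one' := (qm_eq_one _).mpr (by simp)
      map_mul' := fun c d => by rw [qm_mul]; exact qm_congr _ _ (by push_cast; group) }
  let α : CQ f →* CQ f := QuotientGroup.lift _ α0 (by
    intro c hc
    rw [mem_subgroupOf] at hc
    obtain ⟨n, hn⟩ := mem_zpowers_iff.mp hc
    refine (qm_eq_one (hzc c (mem_centralizer_singleton_iff.mp c.2))).mpr ?_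
    rw [← hn, ← conj_zpow, hzf]
    exact zpow_mem (inv_mem (mem_zpowers f)) n)
  have hα : ∀ (c : G) (hc : c * f = f * c), α (qm f hc) = qm f (hzc c hc) := fun c hc => rfl
  have hαB : ∀ x (hx : x ∈ bGroup z t σ), α (qm f (S.bc hx hfL)) = qm f (S.bc hx hfL) := fun x hx => by
    rw [hα]
    exact qm_congr _ _ (by rw [← (mem_bGroup.mp hx).1, mul_inv_cancel_right])
  let β : alternatingGroup (Fin 5) →* alternatingGroup (Fin 5) :=
    (e.toMonoidHom.comp α).comp e.symm.toMonoidHom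
  have hβ : ∀ u, β u = e (α (e.symm u)) := fun u => rfl
  have hβz : β zA = zA := by rw [hβ, ← et, MulEquiv.symm_apply_apply, hαB t htB, et]
  have hβa : β aA = aA := by rw [hβ, ← eb, MulEquiv.symm_apply_apply, hαB b hb, eb]
  obtain ⟨hww, h3, h5, h5', hw1, hwz, -, -⟩ := wp_orders
  set w' := β wA with hw'
  have cv : ∀ {x y : alternatingGroup (Fin 5)} {n : ℕ},
      ((x : Perm (Fin 5)) * y) ^ n = 1 → ((β x : Perm (Fin 5)) * (β y : Perm (Fin 5))) ^ n = 1 := by
    intro x y n h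
    have h0 : (x * y) ^ n = 1 := Subtype.ext (by push_cast; exact h)
    have h1 : (β x * β y) ^ n = 1 := by rw [← map_mul, ← map_pow, h0, map_one]
    simpa using congrArg Subtype.val h1
  have w2 : (w' : Perm (Fin 5)) * (w' : Perm (Fin 5)) = 1 := by
    simpa using cv (x := wA) (y := wA) (n := 1) (by simpa [wA] using hww)
  have w3 : ((w' : Perm (Fin 5)) * zp) ^ 3 = 1 := by
    have := cv (x := wA) (y := zA) h3
    rwa [hβz] at this
  have w5 : ((w' : Perm (Fin 5)) * ap) ^ 5 = 1 := by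
    have := cv (x := wA) (y := aA) h5
    rwa [hβa] at this
  have w5' : ((w' : Perm (Fin 5)) * (zp * ap)) ^ 5 = 1 := by
    have := cv (x := wA) (y := zA * aA) (by simpa [zA, aA, wA] using h5')
    rw [map_mul, hβz, hβa] at this
    simpa [zA, aA] using this
  have w1 : (w' : Perm (Fin 5)) ≠ 1 := fun h => by
    rw [h, one_mul, pow_three, fix_four.2.2.2.2.2.2.1.2.1, mul_one] at w3
    exact fix_four.2.2.2.2.2.2.1.1 w3
  obtain ⟨v, hv, hvw⟩ := conj_four _ (Perm.mem_alternatingGroup.mp w'.2) w2 w3 w5 w5' w1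
  obtain ⟨vA, vG, hvB, hvA, hvq⟩ : ∃ (vA : alternatingGroup (Fin 5)) (vG : G)
      (hvB : vG ∈ bGroup z t σ), (vA : Perm (Fin 5)) = v ∧ e (qm f (S.bc hvB hfL)) = vA := by
    rcases hv with h | h | h | h
    · refine ⟨1, 1, one_mem _, h.symm, ?_⟩
      rw [(qm_eq_one _).mpr (one_mem _), map_one]
    · exact ⟨zA, t, htB, h.symm, et⟩
    · exact ⟨aA, b, hb, h.symm, eb⟩
    · refine ⟨zA * aA, t * b, mul_mem htB hb, h.symm, ?_⟩
      rw [← et, ← eb, ← map_mul, qm_mul]
  obtain ⟨-, -, -, -, -, -, -, -, hza, -⟩ := fix_four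
  have hvz : v * zp * v⁻¹ = zp := by
    rw [mul_inv_eq_iff_eq_mul]
    rcases hv with rfl | rfl | rfl | rfl
    · simp
    · rfl
    · exact hza.symm
    · rw [mul_assoc, ← hza]
  have hva : v * ap * v⁻¹ = ap := by
    rw [mul_inv_eq_iff_eq_mul]
    rcases hv with rfl | rfl | rfl | rfl
    · simp
    · exact hza
    · rfl
    · rw [← mul_assoc, ← hza, mul_assoc]
  have hconj : ∀ u, β u = vA * u * vA⁻¹ := by
    intro u
    have hH : MonoidHom.eqLocus β (MulAut.conj vA).toMonoidHom = ⊤ := by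
      refine closure_gen (x := zA) (y := aA) (w := wA) rfl rfl rfl ?_ ?_ ?_
      · show β zA = vA * zA * vA⁻¹
        rw [hβz]; exact Subtype.ext (by push_cast; rw [hvA]; exact hvz.symm)
      · show β aA = vA * aA * vA⁻¹
        rw [hβa]; exact Subtype.ext (by push_cast; rw [hvA]; exact hva.symm)
      · show β wA = vA * wA * vA⁻¹
        exact Subtype.ext (by push_cast; rw [hvA]; exact hvw.symm)
    exact (hH.symm ▸ mem_top u : u ∈ MonoidHom.eqLocus β (MulAut.conj vA).toMonoidHom)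
  obtain ⟨hvzc, hvtc, -⟩ := mem_bGroup.mp hvB
  have hvv := S.bsq hvB
  obtain ⟨u, hu⟩ : ∃ u, u = vG * z := ⟨_, rfl⟩
  have huu : u * u = 1 := by
    rw [hu, mul_assoc, ← mul_assoc z, ← hvzc, mul_assoc vG z z, D.base.zz, mul_one, hvv]
  have huf : u * f * u⁻¹ = f⁻¹ := by
    rw [hu, show vG * z * f * (vG * z)⁻¹ = vG * (z * f * z⁻¹) * vG⁻¹ by group, hzf, ← conj_inv,
      S.bc hvB hfL, mul_inv_cancel_right]
  have htriv : ∀ c : G, c * f = f * c → c⁻¹ * (u * c * u⁻¹) ∈ zpowers f := by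
    intro c hc
    have hu2 : u * c * u⁻¹ = vG * (z * c * z⁻¹) * vG⁻¹ := by rw [hu]; group
    have hvf := S.bc hvB hfL
    have hcc : u * c * u⁻¹ * f = f * (u * c * u⁻¹) := by
      rw [hu2]
      exact Commute.mul_left (Commute.mul_left hvf (hzc c hc)) (Commute.inv_left hvf)
    refine (qm_eq hc hcc).mp (e.injective ?_)
    have h1 : qm f hcc = qm f hvf * α (qm f hc) * (qm f hvf)⁻¹ := by
      rw [hα]; exact qm_congr hcc (Commute.mul_left (Commute.mul_left hvf (hzc c hc)) (Commute.inv_left hvf)) hu2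
    have h2 : e (α (qm f hc)) = vA * e (qm f hc) * vA⁻¹ := by
      rw [← hconj, hβ, MulEquiv.symm_apply_apply]
    have hvA2 : vA * vA = 1 := by
      have h0 : qm f hvf * qm f hvf = 1 :=
        (qm_eq_one (c := vG * vG) (Commute.mul_left hvf hvf)).mpr (by rw [hvv]; exact one_mem _)
      rw [← hvq, ← map_mul, h0, map_one]
    rw [h1, map_mul, map_mul, map_inv, hvq, h2, inv_eq_of_mul_eq_one_left hvA2, ← mul_assoc,
      ← mul_assoc, hvA2, one_mul, mul_assoc, hvA2, mul_one]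
  set M := centralizer ({f} : Set G) ⊓ centralizer ({u} : Set G) with hM
  obtain ⟨θ, hθ⟩ : ∃ θ : M ≃* CQ f, ∀ (c : M) (hc : (c : G) * f = f * c), θ c = qm f hc :=
    complement_iso hf huu huf htriv
  let κ : alternatingGroup (Fin 5) →* G := M.subtype.comp (θ.trans e).symm.toMonoidHom
  have hκinj : Function.Injective κ := M.subtype_injective.comp (θ.trans e).symm.injective
  have hκM : ∀ π, κ π * f = f * κ π ∧ κ π * u = u * κ π := fun π =>
    ⟨mem_centralizer_singleton_iff.mp (mem_inf.mp ((θ.trans e).symm π).2).1,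
      mem_centralizer_singleton_iff.mp (mem_inf.mp ((θ.trans e).symm π).2).2⟩
  have hκB : ∀ x (hx : x ∈ bGroup z t σ) π, e (qm f (S.bc hx hfL)) = π → κ π = x := by
    intro x hx π hπ
    have hxu : x * u = u * x := by rw [hu]; exact Commute.mul_right (S.bcomm hx hvB) (mem_bGroup.mp hx).1
    set xM : M := ⟨x, mem_inf.mpr ⟨mem_centralizer_singleton_iff.mpr (S.bc hx hfL),
      mem_centralizer_singleton_iff.mpr hxu⟩⟩ with hxM
    have h1 : (θ.trans e) xM = π := by
      show e (θ xM) = π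
      rw [hθ xM (S.bc hx hfL)]
      exact hπ
    show (((θ.trans e).symm π : M) : G) = x
    rw [← h1, MulEquiv.symm_apply_apply]
  have hκt : κ zA = t := hκB t htB zA et
  have hκb : κ aA = b := hκB b hb aA eb
  -- `vG` is trivial
  have hv1 : vG = 1 := by
    by_contra hne
    have huc : u * z = z * u := by rw [hu]; exact Commute.mul_left hvzc rfl
    have hu1 : u ≠ 1 := fun h => hne (S.bL_disj hvB (by
      rw [eq_inv_of_mul_eq_one_left (hu.symm.trans h)]; exact inv_mem S.hzL))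
    have huQ : u ∉ Q := fun h => by
      have hvQ : vG ∈ Q := by
        have := mul_mem h (inv_mem D.base.hzQ)
        rwa [hu, mul_inv_cancel_right] at this
      exact S.B_not_conj hvB hne (D.isConj_of_invol hvQ hvv hne)
    obtain ⟨g, hg⟩ := isConj_iff.mp (D.conj_of_not S.ht S.t_ne_one S.t_not_conj huu hu1
      (D.not_conj_of_notMem huu huc huQ)).symm
    have hgt : ∀ π, g * κ π * g⁻¹ * t = t * (g * κ π * g⁻¹) := fun π => by
      rw [← hg, show g * κ π * g⁻¹ * (g * u * g⁻¹) = g * (κ π * u) * g⁻¹ by group, (hκM π).2]; group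
    have hcomm : sA * aA * sA⁻¹ * aA⁻¹ = zA := Subtype.ext (by push_cast; exact wp_orders.2.2.2.2.2.2.2)
    have hmem : g * t * g⁻¹ ∈ L := by
      have := comm_mem_L S (hgt sA) (hgt aA)
      rw [show g * κ sA * g⁻¹ * (g * κ aA * g⁻¹) * (g * κ sA * g⁻¹)⁻¹ * (g * κ aA * g⁻¹)⁻¹ =
        g * (κ sA * κ aA * (κ sA)⁻¹ * (κ aA)⁻¹) * g⁻¹ by group,
        ← map_inv, ← map_inv, ← map_mul, ← map_mul, ← map_mul, hcomm, hκt] at this
      exact this
    refine S.t_not_conj ((S.L_ztype hmem ?_ (fun h => S.t_ne_one (conj_eq_one_iff.mp h))).trans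
      (isConj_iff.mpr ⟨g, rfl⟩).symm)
    rw [show g * t * g⁻¹ * (g * t * g⁻¹) = g * (t * t) * g⁻¹ by group, S.ht]; group
  have huz : u = z := by rw [hu, hv1, one_mul]
  refine ⟨κ, hκinj, fun π => ⟨huz ▸ (hκM π).2, (hκM π).1⟩, fun c hcz hcf => ?_, hκt, hκb⟩
  set cM : M := ⟨c, mem_inf.mpr ⟨mem_centralizer_singleton_iff.mpr hcf,
    mem_centralizer_singleton_iff.mpr (huz.symm ▸ hcz)⟩⟩
  refine ⟨(θ.trans e) cM, ?_⟩
  show (((θ.trans e).symm ((θ.trans e) cM) : M) : G) = c
  rw [MulEquiv.symm_apply_apply]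

end Cfsg.Agent.H43.JTwo.Uniq
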