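import Cfsg.Agent.H43.JTwo.Uniq.Normal
import Cfsg.Agent.H43.JTwo.Uniq.Kappa

/-!
The concrete coordinates of `C` and `L` in a group of Hall–Janko type.
-/

set_option autoImplicit false
set_option linter.style.haveILetI false
set_option linter.unusedSectionVars false
set_option linter.unusedSimpArgs false
set_option synthInstance.maxSize 4000

namespace Cfsg.Agent.H43.JTwo.Uniq

open Subgroup Equiv

variable {G : Type*} [Group G] [Finite G]

open scoped Classical in
/-- extension of a map on the alternating group by one -/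
noncomputable def ext5 (φ : alternatingGroup (Fin 5) →* G) (π : Perm (Fin 5)) : G :=
  if h : π ∈ alternatingGroup (Fin 5) then φ ⟨π, h⟩ else 1

theorem ext5_apply (φ : alternatingGroup (Fin 5) →* G) (π : alternatingGroup (Fin 5)) :
    ext5 φ π = φ π := by
  rw [ext5, dif_pos π.2]

theorem ext5_mul (φ : alternatingGroup (Fin 5) →* G) {π ρ : Perm (Fin 5)} (hπ : Perm.sign π = 1)
    (hρ : Perm.sign ρ = 1) : ext5 φ (π * ρ) = ext5 φ π * ext5 φ ρ := by
  have h1 := Perm.mem_alternatingGroup.mpr hπ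
  have h2 := Perm.mem_alternatingGroup.mpr hρ
  rw [ext5, ext5, ext5, dif_pos h1, dif_pos h2, dif_pos (mul_mem h1 h2), ← map_mul]
  rfl

/-- The coordinates. -/
structure Frame (z a σ t b : G) (ι k : alternatingGroup (Fin 5) →* G) (s : Fin 5 → G) : Prop
    extends CModel z s (ext5 k) where
  s4 : s 4 = a
  iz : ι zA = z
  ia : ι aA = a
  is : ι sA = σ
  kt : k zA = t
  kb : k aA = b
  kf : ∀ π, k π * ι fA = ι fA * k π
  kι : ∀ π : alternatingGroup (Fin 5), (π : Perm (Fin 5)) 4 = 4 → ∀ l, k π * ι l = ι l * k π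
  surj : ∀ c : G, c * z = z * c → ∃ x : Mo, Perm.sign x.2 = 1 ∧ phi z s (ext5 k) x = c
  inj : ∀ x y : Mo, Perm.sign x.2 = 1 → Perm.sign y.2 = 1 →
    phi z s (ext5 k) x = phi z s (ext5 k) y → x = y
  inQ : s 0 * s 1 * z = z * (s 0 * s 1)

variable {z : G} {Q : Subgroup G} {D : JSet z Q} {t a σ b : G} {L : Subgroup G} {i j : Fin 5}

theorem NSet.B_cases (N : NSet D t a σ L b i j) {x : G} (hx : x ∈ bGroup z t σ) :
    x = 1 ∨ x = t ∨ x = b ∨ x = t * b := by
  classical
  obtain ⟨-, -, -, hB4, htB⟩ := N.toLSet.bGroup_props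
  have e1 : t * b ≠ 1 := fun e => N.hbt ((eq_inv_of_mul_eq_one_right e).trans
    (inv_eq_of_mul_eq_one_left N.ht))
  have e2 : t * b ≠ t := fun e => N.hb1 (mul_eq_left.mp e)
  have e3 : t * b ≠ b := fun e => N.toLSet.t_ne_one (mul_eq_right.mp e)
  have e4 : t ≠ 1 := N.toLSet.t_ne_one
  have hsub : ((({1, t, b, t * b} : Finset G)) : Set G) ⊆ (bGroup z t σ : Set G) := by
    intro y hy
    simp only [Finset.coe_insert, Finset.coe_singleton, Set.mem_insert_iff, Set.mem_singleton_iff] at hy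
    rcases hy with rfl | rfl | rfl | rfl
    exacts [one_mem _, htB, N.hb, mul_mem htB N.hb]
  have hc : ({1, t, b, t * b} : Finset G).card = 4 := by
    simp [e1.symm, e2.symm, e3.symm, e4.symm, N.hb1.symm, N.hbt.symm]
  have heq := Set.eq_of_subset_of_ncard_le hsub (by
    rw [Set.ncard_coe_finset, hc]; exact le_of_eq hB4) (Set.toFinite _)
  have : x ∈ ((({1, t, b, t * b} : Finset G)) : Set G) := heq ▸ hx
  simpa using this

set_option maxHeartbeats 1000000 in
theorem NSet.exists_frame (N : NSet D t a σ L b i j) :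
    ∃ ι k s, Frame z a σ t b ι k s ∧ (∀ π, ι π ∈ L) := by
  classical
  have S := N.toLSet
  obtain ⟨-, -, -, -, htB⟩ := S.bGroup_props
  obtain ⟨ι, hιinj, hιL, hιz, hιa, hιs⟩ := exists_iota S
  obtain ⟨f5, f1, fz, -, -, -, -, -⟩ := fp_facts
  have hf : orderOf (ι fA) = 5 := by
    haveI : Fact (Nat.Prime 5) := ⟨by norm_num⟩
    rw [orderOf_injective ι hιinj, ← orderOf_coe]
    exact orderOf_eq_prime f5 f1
  have hzf : z * ι fA * z⁻¹ = (ι fA)⁻¹ := by
    rw [← hιz, ← map_inv, ← map_mul, ← map_mul, ← map_inv]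
    exact congrArg ι (Subtype.ext fz)
  obtain ⟨κ, hκinj, hκc, hκcov, hκt, hκb⟩ := exists_kappa S (hιL fA) hf hzf N.hb N.hb1 N.hbt
  -- the permutation action of the copy
  let ψ : alternatingGroup (Fin 5) →* Perm (Fin 5) :=
    { toFun := fun π => D.pm (κ π)
      map_one' := by rw [map_one, D.pm_one]
      map_mul' := fun π ρ => by rw [map_mul, D.pm_mul (hκc π).1 (hκc ρ).1] }
  have hψinj : Function.Injective ψ := by
    haveI : IsSimpleGroup (alternatingGroup (Fin 5)) := alternatingGroup.isSimpleGroup (by simp)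
    rw [← MonoidHom.ker_eq_bot_iff]
    refine (Normal.eq_bot_or_eq_top (MonoidHom.normal_ker ψ)).resolve_right fun e => ?_
    have : ψ zA = 1 := MonoidHom.mem_ker.mp (e ▸ mem_top zA)
    exact (D.pm_inv5 S.ht S.htc S.htQ).1 (hκt ▸ this)
  obtain ⟨hx, hy, hne⟩ := S.pm_B N.hb N.hb1 N.hbt
  obtain ⟨e, he4, he0, het, heb⟩ := relabel (D.pm_inv5 S.ht S.htc S.htQ) hx hy hne N.hi N.hj
  let χ : alternatingGroup (Fin 5) →* alternatingGroup (Fin 5) :=
    ((MulAut.conj e⁻¹).toMonoidHom.comp ψ).codRestrict _ fun π => Perm.mem_alternatingGroup.mpr (by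
      show Perm.sign (e⁻¹ * D.pm (κ π) * e⁻¹⁻¹) = 1
      simp [D.pm_even (hκc π).1])
  have hχval : ∀ π, ((χ π : alternatingGroup (Fin 5)) : Perm (Fin 5)) = e⁻¹ * D.pm (κ π) * e := fun π => by
    show e⁻¹ * D.pm (κ π) * e⁻¹⁻¹ = _
    rw [inv_inv]
  have hχinj : Function.Injective χ := fun π ρ h => hψinj (by
    have h' := congrArg Subtype.val h
    rw [hχval, hχval] at h'
    exact mul_left_cancel (mul_right_cancel h'))
  let χe : alternatingGroup (Fin 5) ≃* alternatingGroup (Fin 5) :=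
    MulEquiv.ofBijective χ (Finite.injective_iff_bijective.mp hχinj)
  let k : alternatingGroup (Fin 5) →* G := κ.comp χe.symm.toMonoidHom
  have hkinj : Function.Injective k := hκinj.comp χe.symm.injective
  have hkc : ∀ π, k π * z = z * k π ∧ k π * ι fA = ι fA * k π := fun π => hκc _
  have hkpm : ∀ π : alternatingGroup (Fin 5), D.pm (k π) = e * (π : Perm (Fin 5)) * e⁻¹ := by
    intro π
    have h := hχval (χe.symm π)
    rw [show χ (χe.symm π) = π from χe.apply_symm_apply π] at h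
    rw [h]
    show D.pm (κ (χe.symm π)) = _
    group
  have hfix : ∀ (π : alternatingGroup (Fin 5)) (x : G), κ π = x → χ π = π → k π = x := by
    intro π x hx h
    show κ (χe.symm π) = x
    rw [show χe.symm π = π from χe.symm_apply_eq.mpr h.symm, hx]
  have hkt : k zA = t := hfix zA t hκt (Subtype.ext (by rw [hχval, hκt, ← het]; simp [zA, mul_assoc]))
  have hkb : k aA = b := hfix aA b hκb (Subtype.ext (by rw [hχval, hκb, ← heb]; simp [aA, mul_assoc]))
  have hkcov : ∀ c : G, c * z = z * c → c * ι fA = ι fA * c → ∃ π, k π = c := by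
    intro c h1 h2
    obtain ⟨π, rfl⟩ := hκcov c h1 h2
    exact ⟨χ π, by show κ (χe.symm (χe π)) = κ π; rw [MulEquiv.symm_apply_apply]⟩
  -- the stabiliser of the last point commutes with `L`
  obtain ⟨π0, hπK, hπo, hπt, hπz, hπL⟩ := S.exists_pi
  obtain ⟨p, hp⟩ := hkcov π0 hπz (hπL _ (hιL fA))
  have hpt : (p : Perm (Fin 5)) * zp ≠ zp * p := fun h => hπt (by
    rw [← hp, ← hkt, ← map_mul, ← map_mul]
    exact congrArg k (Subtype.ext h))
  have hp4 : (p : Perm (Fin 5)) 4 = 4 := by
    have hm : π0 * t * π0⁻¹ ∈ bGroup z t σ :=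
      (mem_normalizer_iff.mp (mem_inf.mp hπK).1 t).mp htB
    refine norm_four _ (Perm.mem_alternatingGroup.mp p.2) ?_
    have h1 : k (p * zA * p⁻¹) = π0 * t * π0⁻¹ := by rw [map_mul, map_mul, map_inv, hp, hkt]
    have back : ∀ π, k (p * zA * p⁻¹) = k π → (p : Perm (Fin 5)) * zp * (p : Perm (Fin 5))⁻¹ = π :=
      fun π h => congrArg Subtype.val (hkinj h)
    rcases N.B_cases hm with r | r | r | r
    · exact absurd (conj_eq_one_iff.mp r) S.t_ne_one
    · exact Or.inl (back zA (by rw [h1, r, hkt]))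
    · exact Or.inr (Or.inl (back aA (by rw [h1, r, hkb])))
    · exact Or.inr (Or.inr (back (zA * aA) (by rw [h1, r, map_mul, hkt, hkb])))
  have hstab : ∀ π : alternatingGroup (Fin 5), (π : Perm (Fin 5)) 4 = 4 → ∀ l ∈ L,
      k π * l = l * k π := by
    intro π hπ l hl
    obtain ⟨v, hv, m, hm⟩ := stab_four _ (Perm.mem_alternatingGroup.mp p.2) hp4 hpt _
      (Perm.mem_alternatingGroup.mp π.2) hπ
    have hpow : π0 ^ (m : ℕ) * l = l * π0 ^ (m : ℕ) := (Commute.pow_left (hπL l hl) _).eq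
    have key : ∀ u : alternatingGroup (Fin 5), (u : Perm (Fin 5)) = v → k u * l = l * k u →
        k π * l = l * k π := by
      intro u hu hc
      have he : π = u * p ^ (m : ℕ) := Subtype.ext (by push_cast; rw [hu]; exact hm)
      rw [he, map_mul, map_pow, hp]
      exact Commute.mul_left hc hpow
    rcases hv with h | h | h | h
    · exact key 1 h.symm (by simp)
    · exact key zA h.symm (by rw [hkt]; exact S.bc htB hl)
    · exact key aA h.symm (by rw [hkb]; exact S.bc N.hb hl)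
    · exact key (zA * aA) h.symm (by
        rw [map_mul, hkt, hkb]; exact Commute.mul_left (S.bc htB hl) (S.bc N.hb hl))
  -- the five involutions
  let rA : Fin 5 → alternatingGroup (Fin 5) := fun l =>
    ⟨rp l, Perm.mem_alternatingGroup.mpr (sign_facts.2.2.2.2.2.2.2.1 l)⟩
  let s : Fin 5 → G := fun l => k (rA l) * a * (k (rA l))⁻¹
  have hrA : ∀ l, ((rA l : alternatingGroup (Fin 5)) : Perm (Fin 5)) 4 = l :=
    sign_facts.2.2.2.2.2.2.2.2
  have hs : ∀ l, s l = D.s (e l) ∨ s l = z * D.s (e l) := by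
    intro l
    have h := D.pm_spec (hkc (rA l)).1 i
    have h2 : D.pm (k (rA l)) i = e l := by
      rw [hkpm, ← he4, Perm.mul_apply, Perm.mul_apply, Perm.inv_def, Equiv.symm_apply_apply, hrA]
    rw [h2, N.hai] at h
    exact h
  have hs4 : s 4 = a := by
    show k (rA 4) * a * (k (rA 4))⁻¹ = a
    rw [show rA 4 = 1 from Subtype.ext rfl]; simp
  have hequiv : ∀ (π : alternatingGroup (Fin 5)) (l : Fin 5),
      k π * s l * (k π)⁻¹ = s ((π : Perm (Fin 5)) l) := by
    intro π l
    set ρ := (rA ((π : Perm (Fin 5)) l))⁻¹ * π * rA l with hρd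
    have hρ4 : (ρ : Perm (Fin 5)) 4 = 4 := by
      rw [hρd]; push_cast
      simp only [Function.comp_apply, Perm.mul_apply, hrA]
      rw [Perm.inv_def, Equiv.symm_apply_eq]
      exact (hrA _).symm
    have hc := hstab ρ hρ4 a S.haL
    have hk : k π * k (rA l) = k (rA ((π : Perm (Fin 5)) l)) * k ρ := by
      rw [← map_mul, ← map_mul, hρd]; congr 1; group
    calc k π * s l * (k π)⁻¹ = (k π * k (rA l)) * a * (k π * k (rA l))⁻¹ := by
          show k π * (k (rA l) * a * (k (rA l))⁻¹) * (k π)⁻¹ = _; group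
      _ = k (rA ((π : Perm (Fin 5)) l)) * (k ρ * a) * (k ρ)⁻¹ * (k (rA ((π : Perm (Fin 5)) l)))⁻¹ := by
          rw [hk]; group
      _ = _ := by rw [hc]; show _ = k (rA _) * a * (k (rA _))⁻¹; group
  have hzs : ∀ l x, D.s l * (z * x) = z * (D.s l * x) := fun l x => by
    rw [← mul_assoc, D.base.zc (D.mem l), mul_assoc]
  have hM : CModel z s (ext5 k) := by
    refine ⟨D.base.zz, fun l => ?_, fun l => ?_, fun l l' hll => ?_, ?_, fun π ρ h1 h2 => ext5_mul k h1 h2,
      fun π => ?_, fun π hπ l => ?_⟩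
    · rcases hs l with r | r <;> rw [r]
      · exact D.base.zc (D.mem _)
      · exact D.base.zc (mul_mem D.base.hzQ (D.mem _))
    · show k (rA l) * a * (k (rA l))⁻¹ * (k (rA l) * a * (k (rA l))⁻¹) = 1
      rw [show k (rA l) * a * (k (rA l))⁻¹ * (k (rA l) * a * (k (rA l))⁻¹) =
        k (rA l) * (a * a) * (k (rA l))⁻¹ by group, S.aa]; group
    · have hn := D.noncomm (e l) (e l') fun h => hll (e.injective h)
      rcases hs l with r | r <;> rcases hs l' with r' | r' <;> rw [r, r'] <;>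
        simp only [mul_assoc, hzs, hn, D.base.mulZ_inv]
    · have hti : t⁻¹ = t := inv_eq_of_mul_eq_one_left S.ht
      have hbi : b⁻¹ = b := inv_eq_of_mul_eq_one_left (S.bsq N.hb)
      obtain ⟨-, -, -, hz0, ha0, hz2, -⟩ := fix_four
      have e1 : s 1 = t * s 0 * t := by
        have := hequiv zA 0
        rw [hkt, hti] at this
        rw [this]; exact congrArg s hz0.symm
      have e2 : s 2 = b * s 0 * b := by
        have := hequiv aA 0
        rw [hkb, hbi] at this
        rw [this]; exact congrArg s ha0.symm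
      have e3 : s 3 = t * b * s 0 * (b * t) := by
        have := hequiv zA 2
        rw [hkt, hti] at this
        rw [← show s ((zA : Perm (Fin 5)) 2) = s 3 from congrArg s hz2, ← this, e2]
        group
      have hfl : flipProd t b (s 0) a = 1 := by
        have h2 : ∀ x, t * (z * x) = z * (t * x) := fun x => by rw [← mul_assoc, S.htc, mul_assoc]
        have h3 : ∀ x, b * (z * x) = z * (b * x) := fun x => by
          rw [← mul_assoc, (mem_bGroup.mp N.hb).1, mul_assoc]
        rcases hs 0 with r | r <;> rw [r, he0]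
        · exact N.hprod
        · rw [← N.hprod]
          simp only [flipProd, mul_assoc, hzs, h2, h3, D.base.mulZ_inv]
      rw [e1, e2, e3, hs4]
      exact hfl
    · by_cases h : π ∈ alternatingGroup (Fin 5)
      · rw [show π = ((⟨π, h⟩ : alternatingGroup (Fin 5)) : Perm (Fin 5)) from rfl, ext5_apply]
        exact (hkc _).1
      · rw [ext5, dif_neg h]; simp
    · have h := hequiv ⟨π, Perm.mem_alternatingGroup.mpr hπ⟩ l
      rw [ext5, dif_pos (Perm.mem_alternatingGroup.mpr hπ)]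
      exact h
  have hqQ : ∀ n, qel z s n ∈ Q := by
    have hsQ : ∀ l, s l ∈ Q := fun l => by
      rcases hs l with r | r <;> rw [r]
      · exact D.mem _
      · exact mul_mem D.base.hzQ (D.mem _)
    have hpw : ∀ (x : Bool) (g : G), g ∈ Q → pw x g ∈ Q := fun x g hg => by
      cases x
      · exact one_mem Q
      · exact hg
    rintro ⟨e', a', b', c', d'⟩
    exact mul_mem (hpw _ _ D.base.hzQ) (mul_mem (hpw _ _ (hsQ _)) (mul_mem (hpw _ _ (hsQ _))
      (mul_mem (hpw _ _ (hsQ _)) (hpw _ _ (hsQ _)))))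
  have hqsurj : ∀ q ∈ Q, ∃ n, qel z s n = q := by
    intro q hq
    have hP : ∀ n, ∃ m, q * qel z s n = qel z s m := by
      refine D.induct (fun q => ∀ n, ∃ m, q * qel z s n = qel z s m) (fun l n => ?_)
        (fun n => ⟨zf n, (hM.qel_zf n).symm⟩) (fun n => ⟨n, one_mul _⟩) (fun x _ y _ hx hy n => ?_) hq
      · rcases hs (e⁻¹ l) with r | r <;> rw [Perm.inv_def, Equiv.apply_symm_apply] at r
        · exact ⟨lm (e.symm l) n, by rw [hM.qel_lm, r]⟩
        · exact ⟨zf (lm (e.symm l) n), by rw [hM.qel_zf, hM.qel_lm, r, ← mul_assoc z, D.base.mulZ_inv]⟩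
      · obtain ⟨m, hm⟩ := hy n
        obtain ⟨m', hm'⟩ := hx m
        exact ⟨m', by rw [mul_assoc, hm, hm']⟩
    obtain ⟨m, hm⟩ := hP qn0
    exact ⟨m, by rw [← hm, CModel.qel_zero, mul_one]⟩
  have hqinj : Function.Injective (qel z s) := by
    let g : QN → Q := fun n => ⟨qel z s n, hqQ n⟩
    have hg : Function.Surjective g := fun q => by
      obtain ⟨n, hn⟩ := hqsurj q q.2
      exact ⟨n, Subtype.ext hn⟩
    haveI := Fintype.ofFinite Q
    have hb' : Function.Bijective g := (Fintype.bijective_iff_surjective_and_card g).mpr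
      ⟨hg, by rw [← Nat.card_eq_fintype_card (α := Q), D.base.card]; rfl⟩
    exact fun m n h => hb'.1 (Subtype.ext h)
  have hpmφ : ∀ x : Mo, Perm.sign x.2 = 1 →
      D.pm (phi z s (ext5 k) x) = e * x.2 * e⁻¹ := by
    intro x hx
    rw [phi, D.pm_mul (D.base.zc (hqQ x.1)) (hM.kz x.2), D.pm_of_mem (hqQ x.1), one_mul, ext5,
      dif_pos (Perm.mem_alternatingGroup.mpr hx)]
    exact hkpm _
  refine ⟨ι, k, s,
    { toCModel := hM, s4 := hs4, iz := hιz, ia := hιa, is := hιs, kt := hkt, kb := hkb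
      kf := fun π => (hkc π).2
      kι := fun π hπ l => hstab π hπ _ (hιL l)
      surj := ?_, inj := ?_
      inQ := D.base.zc (mul_mem ?_ ?_) }, hιL⟩
  · intro c hc
    have hsg : Perm.sign (e⁻¹ * D.pm c * e) = 1 := by simp [D.pm_even hc]
    set π : alternatingGroup (Fin 5) := ⟨e⁻¹ * D.pm c * e, Perm.mem_alternatingGroup.mpr hsg⟩
    have hq : c * (k π)⁻¹ ∈ Q := by
      refine D.mem_of_pm_eq_one (Commute.mul_left hc (Commute.inv_left (hkc π).1)) ?_
      rw [D.pm_mul hc (Commute.inv_left (hkc π).1), D.pm_inv (hkc π).1, hkpm]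
      show D.pm c * (e * (e⁻¹ * D.pm c * e) * e⁻¹)⁻¹ = 1
      group
    obtain ⟨n, hn⟩ := hqsurj _ hq
    refine ⟨(n, (π : Perm (Fin 5))), hsg, ?_⟩
    show qel z s n * ext5 k π = c
    rw [hn, ext5_apply, inv_mul_cancel_right]
  · rintro ⟨m, ρ⟩ ⟨n, π⟩ hm hn h
    have h2 := congrArg D.pm h
    rw [hpmφ _ hm, hpmφ _ hn] at h2
    obtain rfl : ρ = π := mul_left_cancel (mul_right_cancel h2)
    exact Prod.ext (hqinj (mul_right_cancel h)) rfl
  · rcases hs 0 with r | r <;> rw [r]
    exacts [D.mem _, mul_mem D.base.hzQ (D.mem _)]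
  · rcases hs 1 with r | r <;> rw [r]
    exacts [D.mem _, mul_mem D.base.hzQ (D.mem _)]

end Cfsg.Agent.H43.JTwo.Uniq
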