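import Cfsg.Agent.H43.JTwo.NormB
import Cfsg.Agent.H43.JTwo.Uniq.Alt

/-!
Normalised data: a second involution of `B` and the sign of `a`.
-/

set_option autoImplicit false
set_option linter.style.haveILetI false
set_option linter.unusedSectionVars false
set_option linter.unusedSimpArgs false
set_option synthInstance.maxSize 4000

namespace Cfsg.Agent.H43.JTwo.Uniq

open Subgroup

variable {G : Type*} [Group G] [Finite G] {z : G} {Q : Subgroup G}

/-- the product of the four conjugates of `q` with `a` -/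
def flipProd (t b q a : G) : G := q * (t * q * t) * (b * q * b) * (t * b * q * (b * t)) * a

/-- The normalised data. -/
structure NSet (D : JSet z Q) (t a σ : G) (L : Subgroup G) (b : G) (i j : Fin 5) : Prop
    extends LSet D t a σ L where
  hb : b ∈ bGroup z t σ
  hb1 : b ≠ 1
  hbt : b ≠ t
  hi : D.pm t i = i
  hai : D.s i = a
  hj : j ≠ i
  hprod : flipProd t b (D.s j) a = 1

theorem _root_.Cfsg.Agent.H43.JTwo.LSet.pm_B {D : JSet z Q} {t a σ : G} {L : Subgroup G} (S : LSet D t a σ L) {b : G}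
    (hb : b ∈ bGroup z t σ) (hb1 : b ≠ 1) (hbt : b ≠ t) :
    IsInv5 (D.pm b) ∧ D.pm t * D.pm b = D.pm b * D.pm t ∧ D.pm b ≠ D.pm t := by
  obtain ⟨hbz, hbt', -⟩ := mem_bGroup.mp hb
  have htB : t ∈ bGroup z t σ := S.bGroup_props.2.2.2.2
  have notQ : ∀ c ∈ bGroup z t σ, c ≠ 1 → c ∉ Q := fun c hc hc1 h =>
    S.B_not_conj hc hc1 (D.isConj_of_invol h (S.bsq hc) hc1)
  refine ⟨D.pm_inv5 (S.bsq hb) hbz (notQ b hb hb1), ?_, fun e => ?_⟩
  · rw [← D.pm_mul S.htc hbz, ← D.pm_mul hbz S.htc, hbt']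
  · refine notQ (t⁻¹ * b) (mul_mem (inv_mem htB) hb) (fun e' => hbt (inv_mul_eq_one.mp e').symm) ?_
    exact (D.pm_eq_iff S.htc hbz).mp e.symm

/-- Flipping all signs. -/
def flipJ (D : JSet z Q) : JSet z Q where
  base := D.base
  s := fun k => z * D.s k
  mem := fun k => mul_mem D.base.hzQ (D.mem k)
  ss := fun k => by
    rw [mul_assoc, ← mul_assoc (D.s k) z, D.base.zc (D.mem k), mul_assoc z, D.ss, mul_one, D.base.zz]
  noncomm := fun k l hkl => by
    have h : ∀ k l, z * D.s k * (z * D.s l) = D.s k * D.s l := fun k l => by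
      rw [mul_assoc, ← mul_assoc (D.s k) z, D.base.zc (D.mem k), mul_assoc z, D.base.mulZ_inv]
    rw [h, h]
    exact D.noncomm k l hkl
  gen := fun q hq => by
    have hle : closure (insert z (Set.range D.s)) ≤
        closure (insert z (Set.range fun k => z * D.s k)) := by
      rw [closure_le]
      rintro x (rfl | ⟨k, rfl⟩)
      · exact subset_closure (by simp)
      · have h1 : z * D.s k ∈ closure (insert z (Set.range fun k => z * D.s k)) :=
          subset_closure (Or.inr ⟨k, rfl⟩)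
        have h2 : z ∈ closure (insert z (Set.range fun k => z * D.s k)) := subset_closure (by simp)
        have := mul_mem h2 h1
        rwa [D.base.mulZ_inv] at this
    exact hle (D.gen q hq)
  prod := by
    have hz1 : ∀ k x, D.s k * (z * x) = z * (D.s k * x) := fun k x => by
      rw [← mul_assoc, D.base.zc (D.mem k), mul_assoc]
    have e : z * D.s 0 * (z * D.s 1) * (z * D.s 2) * (z * D.s 3) * (z * D.s 4) =
        z * (D.s 0 * D.s 1 * D.s 2 * D.s 3 * D.s 4) := by
      simp only [mul_assoc, hz1, D.base.mulZ_inv]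
    rw [e]
    rcases D.prod with r | r <;> rw [r]
    · exact Or.inr (mul_one z)
    · exact Or.inl D.base.zz
  conj := fun k => D.conj_zs k
  two := D.two

theorem flip_pm (D : JSet z Q) {c : G} (hc : c * z = z * c) : (flipJ D).pm c = D.pm c := by
  refine Equiv.ext fun k => ?_
  rw [(flipJ D).pm_apply hc]
  refine (flipJ D).act_eq hc ?_
  show c * (z * D.s k) * c⁻¹ = z * D.s _ ∨ c * (z * D.s k) * c⁻¹ = z * (z * D.s _)
  rw [← mul_assoc c, hc, show z * c * D.s k * c⁻¹ = z * (c * D.s k * c⁻¹) by group]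
  rcases D.pm_spec hc k with e | e <;> rw [e]
  · exact Or.inl rfl
  · exact Or.inr rfl

theorem exists_nset (D : JSet z Q) :
    ∃ (D' : JSet z Q) (t a σ : G) (L : Subgroup G) (b : G) (i j : Fin 5), NSet D' t a σ L b i j := by
  classical
  obtain ⟨t, htt, htz, htQ⟩ := D.exists_t
  obtain ⟨a, σ, L, S⟩ := D.exists_lset htt htz htQ
  obtain ⟨i, hai, hi⟩ := S.ha
  obtain ⟨-, -, -, hB4, htB⟩ := S.bGroup_props
  obtain ⟨b, hb, hb1, hbt⟩ : ∃ b ∈ bGroup z t σ, b ≠ 1 ∧ b ≠ t := by
    by_contra hne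
    push Not at hne
    have : (bGroup z t σ : Set G) ⊆ {1, t} := fun x hx => by
      by_cases h : x = 1
      · exact Or.inl h
      · exact Or.inr (hne x hx h)
    have h2 := Set.ncard_le_ncard this (Set.toFinite _)
    rw [show (bGroup z t σ : Set G).ncard = 4 from hB4] at h2
    have : ({1, t} : Set G).ncard ≤ 2 := (Set.ncard_insert_le _ _).trans (by simp)
    omega
  obtain ⟨j, hj⟩ : ∃ j : Fin 5, j ≠ i :=
    ⟨i + 1, (by decide : ∀ k : Fin 5, k + 1 ≠ k) i⟩
  obtain ⟨hx, hy, hne⟩ := S.pm_B hb hb1 hbt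
  obtain ⟨hbz, -, -⟩ := mem_bGroup.mp hb
  have hbb := S.bsq hb
  have hbi : b⁻¹ = b := inv_eq_of_mul_eq_one_left hbb
  have hti : t⁻¹ = t := inv_eq_of_mul_eq_one_left htt
  obtain ⟨e, he4, he0, het, heb⟩ := relabel (D.pm_inv5 htt htz htQ) hx hy hne hi hj
  -- the product is central
  have hP : flipProd t b (D.s j) a = 1 ∨ flipProd t b (D.s j) a = z := by
    have m1 : ∀ c, c * z = z * c → ∀ q ∈ Q, c * q * c⁻¹ ∈ Q := fun c hc q hq => D.base.norm c hc q hq
    have bc : ∀ c, c * z = z * c → ∀ k, D.beta (c * D.s k * c⁻¹) = Coord.sv (D.pm c k) := by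
      intro c hc k
      rcases D.pm_spec hc k with r | r <;> rw [r]
      · exact D.beta_s _
      · rw [D.beta_zmul (D.mem _), D.beta_s]
    have q1 : t * D.s j * t = t * D.s j * t⁻¹ := by rw [hti]
    have q2 : b * D.s j * b = b * D.s j * b⁻¹ := by rw [hbi]
    have q3 : t * b * D.s j * (b * t) = (t * b) * D.s j * (t * b)⁻¹ := by rw [mul_inv_rev, hti, hbi]
    have htb : t * b * z = z * (t * b) := Commute.mul_left htz hbz
    have k0 := D.mem j
    have k1 := m1 t htz _ k0
    have k2 := m1 b hbz _ k0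
    have k3 := m1 (t * b) htb _ k0
    rw [flipProd, q1, q2, q3, ← hai]
    refine D.eq_of_beta_zero (mul_mem (mul_mem (mul_mem (mul_mem k0 k1) k2) k3) (D.mem i)) ?_
    rw [D.beta_mul (mul_mem (mul_mem (mul_mem k0 k1) k2) k3) (D.mem i),
      D.beta_mul (mul_mem (mul_mem k0 k1) k2) k3, D.beta_mul (mul_mem k0 k1) k2, D.beta_mul k0 k1,
      bc t htz, bc b hbz, bc _ htb, D.beta_s, D.beta_s]
    have e1 : D.pm t j = e 1 := by
      rw [← het, ← he0, Equiv.Perm.mul_apply, Equiv.Perm.mul_apply, Equiv.Perm.inv_def,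
        Equiv.symm_apply_apply, fix_four.2.2.2.1]
    have e2 : D.pm b j = e 2 := by
      rw [← heb, ← he0, Equiv.Perm.mul_apply, Equiv.Perm.mul_apply, Equiv.Perm.inv_def,
        Equiv.symm_apply_apply, fix_four.2.2.2.2.1]
    have e3 : D.pm (t * b) j = e 3 := by
      rw [D.pm_mul htz hbz, Equiv.Perm.mul_apply, e2, ← het, Equiv.Perm.mul_apply, Equiv.Perm.mul_apply,
        Equiv.Perm.inv_def, Equiv.symm_apply_apply, fix_four.2.2.2.2.2.1]
    rw [e1, e2, e3, ← he0, ← he4]
    exact sum_sv e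
  rcases hP with hP | hP
  · exact ⟨D, t, a, σ, L, b, i, j, S, hb, hb1, hbt, hi, hai, hj, hP⟩
  · -- replace `(a, σ)` by `(za, σ⁻¹)`
    have hσ' : σ⁻¹ * t = t * σ⁻¹ := Commute.inv_left S.hσt
    have hB : bGroup z t σ⁻¹ = bGroup z t σ := by
      ext x
      rw [mem_bGroup, mem_bGroup]
      exact and_congr_right' (and_congr_right' Commute.inv_right_iff)
    have hzt : z * (z * a) = a := D.base.mulZ_inv a
    have hiz : (flipJ D).pm t i = i := by rw [flip_pm D htz, hi]
    have hj2 : flipProd t b ((flipJ D).s j) (z * a) = 1 := by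
      show flipProd t b (z * D.s j) (z * a) = 1
      have hz1 : ∀ c, c * z = z * c → ∀ x, c * (z * x) = z * (c * x) := fun c hc x => by
        rw [← mul_assoc, hc, mul_assoc]
      have h2 := hz1 t htz
      have h3 := hz1 b hbz
      have h4 : ∀ x, D.s j * (z * x) = z * (D.s j * x) := hz1 _ (D.base.zc (D.mem j))
      have h5 : flipProd t b (z * D.s j) (z * a) = z * flipProd t b (D.s j) a := by
        simp only [flipProd, mul_assoc, h2, h3, h4, D.base.mulZ_inv]
      rw [h5, hP, D.base.zz]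
    refine ⟨flipJ D, t, z * a, σ⁻¹, L, b, i, j,
      { ht := htt, htc := htz, htQ := htQ, ha := ⟨i, by show z * D.s i = z * a; rw [hai], hiz⟩
        hσ := by rw [orderOf_inv, S.hσ]
        hσt := hσ'
        hσz := ?_
        hσa := ?_
        hLK := S.hLK, hnorm := S.hnorm, hLA := S.hLA, hσL := inv_mem S.hσL
        hcard := S.hcard, hcov := S.hcov
        hb := hB.symm ▸ hb, hb1 := hb1, hbt := hbt, hi := hiz
        hai := by show z * D.s i = z * a; rw [hai]
        hj := hj, hprod := hj2 }⟩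
    · conv_lhs => rw [← S.sig_za]
      group
    · rw [hzt]
      conv_rhs => rw [show a = σ⁻¹ * (σ * a * σ⁻¹) * σ by group, S.hσa]
      group

end Cfsg.Agent.H43.JTwo.Uniq
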